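import Cfsg.Agent.Lib.Linear.SympInvolution
import Cfsg.Agent.Lib.Linear.Alternating

/-!
# Centralisers of square-zero self-adjoint maps of symplectic spaces in characteristic two

The centraliser of such a map `N` of rank `s` is transitive on the families `u` with
`B (u i) (N (u j)) = G i j` and `B (u i) (u j) = 0`, with stabiliser the fixer of their span with `N`.
-/

set_option autoImplicit false
set_option maxHeartbeats 1000000

namespace Cfsg.Lib.Linear.SympInv

open Module Cfsg.Lib.Linear.Symp

variable {F V : Type*} [Field F] [AddCommGroup V] [Module F V]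

/-- The isometries commuting with `N`. -/
def centN (B : LinearMap.BilinForm F V) (N : End F V) : Subgroup (V ≃ₗ[F] V) where
  carrier := {g | g ∈ iso B ∧ ∀ x, g (N x) = N (g x)}
  one_mem' := ⟨one_mem _, fun _ => rfl⟩
  mul_mem' := fun {g h} hg hh => ⟨mul_mem hg.1 hh.1, fun x => by
    show g (h (N x)) = N (g (h x))
    rw [hh.2, hg.2]⟩
  inv_mem' := fun {g} hg => ⟨inv_mem hg.1, fun x => g.injective (by
    show g (g.symm (N x)) = g (N (g.symm x))
    rw [hg.2, g.apply_symm_apply, g.apply_symm_apply])⟩

theorem mem_centN {B : LinearMap.BilinForm F V} {N : End F V} {g : V ≃ₗ[F] V} :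
    g ∈ centN B N ↔ g ∈ iso B ∧ ∀ x, g (N x) = N (g x) := Iff.rfl

variable [FiniteDimensional F V] [CharP F 2] [Finite F]

/-- The standing hypotheses on a square-zero self-adjoint map of rank `s` with a Gram matrix `G`. -/
structure Data (B : LinearMap.BilinForm F V) (N : End F V) {s : ℕ} (G : Matrix (Fin s) (Fin s) F) : Prop where
  nd : B.Nondegenerate
  alt : B.IsAlt
  sq : ∀ x, N (N x) = 0
  adj : ∀ u v, B (N u) v = B u (N v)
  rank : finrank F (LinearMap.range N) = s
  det : G.det ≠ 0

variable {B : LinearMap.BilinForm F V} {N : End F V} {s : ℕ} {G : Matrix (Fin s) (Fin s) F}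

omit [FiniteDimensional F V] [CharP F 2] [Finite F] in
theorem eq_zero_of_pairing (hG : G.det ≠ 0) {a : Fin s → F} (ha : ∀ j, ∑ i, a i * G i j = 0) : a = 0 := by
  classical
  by_contra hne
  exact hG (Matrix.exists_vecMul_eq_zero_iff.1 ⟨a, hne, funext fun j => by
    simp only [Matrix.vecMul, dotProduct, Pi.zero_apply]; exact ha j⟩)

theorem Data.range_eq (d : Data B N G) {w : Fin s → V} (hw : Family B N G w) :
    LinearMap.range N ≤ LinearMap.range (emb N w) := by
  have hle : LinearMap.range ((emb N w).comp (LinearMap.inr F _ _)) = LinearMap.range N := by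
    refine Submodule.eq_of_le_of_finrank_eq ?_ ?_
    · rintro _ ⟨a, rfl⟩
      refine ⟨emb N w (a, 0), ?_⟩
      rw [N_emb d.sq]
      rfl
    · rw [LinearMap.finrank_range_of_inj (show Function.Injective ((emb N w).comp (LinearMap.inr F (Fin s → F) (Fin s → F))) from
          fun a b h => LinearMap.inr_injective (hw.injective d.alt d.sq d.adj d.det h)), d.rank, Module.finrank_fin_fun]
  rw [← hle]
  exact LinearMap.range_comp_le_range _ _

theorem Data.eq_zero_of_perp (d : Data B N G) {w : Fin s → V} (hw : Family B N G w) {y : V}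
    (hy : ∀ p, B (emb N w p) y = 0) : N y = 0 := by
  refine d.nd.1 _ fun x => ?_
  obtain ⟨p, hp⟩ := d.range_eq hw (LinearMap.mem_range_self N x)
  rw [d.adj, sym_of_alt d.alt, ← hp]
  exact hy p

theorem Data.inf_perp (d : Data B N G) {w : Fin s → V} (hw : Family B N G w) :
    LinearMap.range (emb N w) ⊓ B.orthogonal (LinearMap.range (emb N w)) = ⊥ := by
  rw [eq_bot_iff]
  rintro _ ⟨⟨p, rfl⟩, hp⟩
  have h1 : ∀ p', B (emb N w p') (emb N w p) = 0 := fun p' => hp _ ⟨p', rfl⟩
  have h0 : p = 0 := Prod.ext (eq_zero_of_pairing d.det fun j => by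
      have h2 := hw.emb_pair d.sq d.adj p (0, Pi.single j 1)
      rw [sym_of_alt d.alt, h1] at h2
      simpa [Pi.single_apply] using h2.symm)
    (eq_zero_of_pairing d.det fun j => by
      have h2 := hw.emb_pair d.sq d.adj p (Pi.single j 1, 0)
      rw [sym_of_alt d.alt, h1] at h2
      simpa [Pi.single_apply] using h2.symm)
  rw [h0, map_zero]
  exact Submodule.zero_mem _

theorem Data.fixer_le (d : Data B N G) {w : Fin s → V} (hw : Family B N G w) :
    fixer B (LinearMap.range (emb N w)) ≤ centN B N := fun g hg => by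
  refine ⟨hg.1, fun x => ?_⟩
  rw [hg.2 _ (d.range_eq hw (LinearMap.mem_range_self N x))]
  have h : N (g x - x) = 0 := d.eq_zero_of_perp hw fun p => by
    rw [map_sub, sub_eq_zero]
    conv_lhs => rw [← hg.2 _ ⟨p, rfl⟩]
    exact hg.1 _ _
  rw [map_sub, sub_eq_zero] at h
  exact h.symm

theorem Data.exists_map (d : Data B N G) {w w' : Fin s → V} (hw : Family B N G w) (hw' : Family B N G w') :
    ∃ g ∈ centN B N, ∀ i, g (w i) = w' i := by
  classical
  have hinj := hw.injective d.alt d.sq d.adj d.det
  have hinj' := hw'.injective d.alt d.sq d.adj d.det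
  let e := LinearEquiv.ofInjective (emb N w) hinj
  let φ : LinearMap.range (emb N w) →ₗ[F] V := (emb N w').comp e.symm.toLinearMap
  have hφe : ∀ p, φ (e p) = emb N w' p := fun p => by simp [φ]
  obtain ⟨g, hgT, hgx⟩ := witt d.nd d.alt (LinearMap.range (emb N w)) φ
    (fun x y h => e.symm.injective (hinj' h)) (fun x y => by
      obtain ⟨p, rfl⟩ := e.surjective x
      obtain ⟨p', rfl⟩ := e.surjective y
      rw [hφe, hφe, hw'.emb_pair d.sq d.adj]
      exact (hw.emb_pair d.sq d.adj p p').symm)
  have hg : g ∈ iso B := T_le_iso d.alt _ hgT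
  have hgp : ∀ p, g (emb N w p) = emb N w' p := fun p => by
    rw [← hφe]; exact hgx (e p)
  refine ⟨g, ⟨hg, fun x => ?_⟩, fun i => ?_⟩
  · obtain ⟨p, hp⟩ := d.range_eq hw (LinearMap.mem_range_self N x)
    have h1 : g (N x) ∈ LinearMap.range (emb N w') := ⟨p, by rw [← hgp, hp]⟩
    have h2 : g (N x) - N (g x) ∈ LinearMap.range (emb N w') ⊓ B.orthogonal (LinearMap.range (emb N w')) := by
      refine ⟨Submodule.sub_mem _ h1 (d.range_eq hw' (LinearMap.mem_range_self N (g x))), ?_⟩
      rintro _ ⟨p', rfl⟩
      show B (emb N w' p') (g (N x) - N (g x)) = 0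
      rw [map_sub, sub_eq_zero, ← d.adj (emb N w' p') (g x), N_emb d.sq, ← hgp, ← hgp, hg, hg, ← d.adj, N_emb d.sq]
    rw [d.inf_perp hw', Submodule.mem_bot, sub_eq_zero] at h2
    exact h2
  · have := hgp (Pi.single i 1, 0)
    simpa [emb_apply, Pi.single_apply] using this

theorem Data.card_centN [Fintype F] [Finite V] (d : Data B N G) {w : Fin s → V} (hw : Family B N G w) :
    Nat.card (centN B N) = Nat.card {u : Fin s → V // Family B N G u} *
      Nat.card (fixer B (LinearMap.range (emb N w))) := by
  classical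
  have horb : MulAction.orbit (centN B N) w = {u | Family B N G u} := by
    ext u
    constructor
    · rintro ⟨⟨g, hg, hgN⟩, rfl⟩
      exact ⟨fun i j => by
        show B (g (w i)) (N (g (w j))) = _
        rw [← hgN, hg, hw.gram], fun i j => by
        show B (g (w i)) (g (w j)) = _
        rw [hg, hw.iso]⟩
    · intro hu
      obtain ⟨g, hg, hgw⟩ := d.exists_map hw hu
      exact ⟨⟨g, hg⟩, funext hgw⟩
  have hst : MulAction.stabilizer (centN B N) w =
      (fixer B (LinearMap.range (emb N w))).subgroupOf (centN B N) := by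
    ext ⟨g, hg, hgN⟩
    rw [MulAction.mem_stabilizer_iff, Subgroup.mem_subgroupOf, mem_fixer]
    constructor
    · intro h
      refine ⟨hg, ?_⟩
      rintro _ ⟨p, rfl⟩
      have hi : ∀ i, g (w i) = w i := fun i => congrFun h i
      show g (emb N w p) = _
      simp only [emb_apply, map_add, map_sum, map_smul, hgN, hi]
    · rintro ⟨-, h⟩
      funext i
      have := h (emb N w (Pi.single i 1, 0)) ⟨_, rfl⟩
      show g (w i) = w i
      simpa [emb_apply, Pi.single_apply] using this
  rw [← Subgroup.card_mul_index (MulAction.stabilizer (centN B N) w), MulAction.index_stabilizer, horb,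
    hst, Nat.card_congr (Subgroup.subgroupOfEquivOfLe (d.fixer_le hw)).toEquiv, mul_comm]
  rfl

theorem Data.card_fixer_family [Fintype F] [Finite V] (d : Data B N G) {w : Fin s → V} (hw : Family B N G w) {m : ℕ}
    (hm : finrank F V = 2 * m) : Nat.card (fixer B (LinearMap.range (emb N w))) =
      Fintype.card F ^ ((m - s) ^ 2) * ∏ i ∈ Finset.range (m - s), (Fintype.card F ^ (2 * (i + 1)) - 1) := by
  obtain ⟨k, hk, hcard⟩ := card_fixer d.nd d.alt _ _ (d.inf_perp hw) le_rfl
  rw [LinearMap.BilinForm.finrank_orthogonal d.nd, hm,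
    LinearMap.finrank_range_of_inj (hw.injective d.alt d.sq d.adj d.det), Module.finrank_prod,
    Module.finrank_fin_fun] at hk
  have := finrank_family d.alt d.sq d.adj d.det hw
  rw [hcard, show k = m - s by omega]

/-- Tuples with Gram matrix `G`, against isometries of `G` and tuples in the kernel. -/
theorem Data.card_gram [Fintype F] [Finite V] (d : Data B N G) {w : Fin s → V}
    (hw : ∀ i j, B (w i) (N (w j)) = G i j) :
    Nat.card {u : Fin s → V // ∀ i j, B (u i) (N (u j)) = G i j} =
      Nat.card {A : Matrix (Fin s) (Fin s) F // A * G * Matrix.transpose A = G} *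
        Nat.card (Fin s → LinearMap.ker N) := by
  classical
  have hgram : ∀ (A : Matrix (Fin s) (Fin s) F) (k : Fin s → LinearMap.ker N) i j,
      B (∑ a, A i a • w a + (k i : V)) (N (∑ b, A j b • w b + (k j : V))) = (A * G * Matrix.transpose A) i j := by
    intro A k i j
    have hk : ∀ x, N (k x : V) = 0 := fun x => (k x).2
    have hk' : ∀ x b, B (k x : V) (N (w b)) = 0 := fun x b => by rw [← d.adj, hk, map_zero, LinearMap.zero_apply]
    simp only [map_add, map_sum, map_smul, hk, add_zero, LinearMap.add_apply, LinearMap.sum_apply, LinearMap.smul_apply,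
      hk', smul_eq_mul, mul_zero, hw, Matrix.mul_apply, Matrix.transpose_apply, Finset.sum_mul]
    refine Finset.sum_congr rfl fun b _ => ?_
    rw [Finset.mul_sum]
    exact Finset.sum_congr rfl fun a _ => by ring
  have hli : LinearIndependent F fun i => N (w i) := by
    rw [Fintype.linearIndependent_iff]
    intro c hc
    have h := eq_zero_of_pairing d.det (a := c) fun j => by
      have := congrArg (fun z => B z (w j)) hc
      simpa [d.adj, hw] using this
    exact congrFun h
  have hspan : Submodule.span F (Set.range fun i => N (w i)) = LinearMap.range N := by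
    refine Submodule.eq_of_le_of_finrank_eq ?_ ?_
    · rw [Submodule.span_le]
      rintro _ ⟨i, rfl⟩
      exact LinearMap.mem_range_self N _
    · rw [finrank_span_eq_card hli, Fintype.card_fin, d.rank]
  rw [← Nat.card_prod]
  refine (Nat.card_eq_of_bijective (fun p => ⟨fun i => ∑ a, p.1.1 i a • w a + (p.2 i : V), fun i j => by
    rw [hgram, p.1.2]⟩) ⟨fun p p' h => ?_, fun u => ?_⟩).symm
  · have hu : ∀ i, ∑ a, p.1.1 i a • w a + (p.2 i : V) = ∑ a, p'.1.1 i a • w a + (p'.2 i : V) :=
      fun i => congrFun (congrArg Subtype.val h) i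
    have hA : p.1.1 = p'.1.1 := by
      refine Matrix.ext fun i a => ?_
      have h1 := congrArg N (hu i)
      have hk : ∀ x, N ((p.2 x : V)) = 0 ∧ N ((p'.2 x : V)) = 0 := fun x => ⟨(p.2 x).2, (p'.2 x).2⟩
      simp only [map_add, map_sum, map_smul, (hk i).1, (hk i).2, add_zero] at h1
      rw [← sub_eq_zero, ← Finset.sum_sub_distrib] at h1
      simp only [← sub_smul] at h1
      exact sub_eq_zero.1 (Fintype.linearIndependent_iff.1 hli _ h1 a)
    refine Prod.ext (Subtype.ext hA) (funext fun i => Subtype.ext ?_)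
    have h2 := hu i
    rw [hA] at h2
    exact add_left_cancel h2
  · have hc : ∀ i, ∃ c : Fin s → F, ∑ a, c a • N (w a) = N (u.1 i) := fun i =>
      Submodule.mem_span_range_iff_exists_fun F |>.1 (hspan ▸ LinearMap.mem_range_self N _)
    choose A hA using hc
    let k : Fin s → LinearMap.ker N := fun i => ⟨u.1 i - ∑ a, A i a • w a, by
      rw [LinearMap.mem_ker, map_sub, map_sum, sub_eq_zero, ← hA]
      exact Finset.sum_congr rfl fun a _ => (map_smul _ _ _).symm⟩
    have hu : ∀ i, u.1 i = ∑ a, A i a • w a + (k i : V) := fun i => by simp [k]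
    refine ⟨(⟨Matrix.of A, Matrix.ext fun i j => ?_⟩, k), Subtype.ext (funext fun i => (hu i).symm)⟩
    rw [← hgram (Matrix.of A) k i j, ← u.2 i j, hu i, hu j]
    rfl

/-- Each tuple with Gram matrix `G` is a family translated by a strictly upper triangular matrix. -/
theorem Data.card_family [Fintype F] [Finite V] (d : Data B N G) :
    Nat.card {u : Fin s → V // ∀ i j, B (u i) (N (u j)) = G i j} =
      Nat.card {u : Fin s → V // Family B N G u} * Nat.card ({p : Fin s × Fin s // p.1 < p.2} → F) := by
  classical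
  have hs := sym_of_alt d.alt
  have hGu : IsUnit G.det := isUnit_iff_ne_zero.2 d.det
  let Dm : ({p : Fin s × Fin s // p.1 < p.2} → F) → Matrix (Fin s) (Fin s) F :=
    fun f => Matrix.of fun i j => if h : i < j then f ⟨(i, j), h⟩ else 0
  let shift : ({p : Fin s × Fin s // p.1 < p.2} → F) → (Fin s → V) → Fin s → V :=
    fun f u i => u i + ∑ k, (Dm f * G⁻¹) i k • N (u k)
  have hNs : ∀ f u i, N (shift f u i) = N (u i) := fun f u i => by
    simp only [shift, map_add, map_sum, map_smul, d.sq, smul_zero, Finset.sum_const_zero, add_zero]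
  have hgr : ∀ f u, (∀ i j, B (u i) (N (u j)) = G i j) → ∀ i j, B (shift f u i) (N (shift f u j)) = G i j :=
    fun f u hu i j => by
    rw [hNs]
    simp only [shift, map_add, map_sum, map_smul, LinearMap.add_apply, LinearMap.sum_apply, LinearMap.smul_apply]
    rw [hu, Finset.sum_eq_zero fun k _ => by rw [d.adj, d.sq, map_zero, smul_zero], add_zero]
  have hsh : ∀ f u, (∀ i j, B (u i) (N (u j)) = G i j) → ∀ i j,
      B (shift f u i) (shift f u j) = B (u i) (u j) + (Dm f i j + Dm f j i) := by
    intro f u hu i j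
    have hCG : Dm f * G⁻¹ * G = Dm f := Matrix.nonsing_inv_mul_cancel_right G _ hGu
    have hNN : ∀ k l, B (N (u k)) (N (u l)) = 0 := fun k l => by rw [d.adj, d.sq, map_zero]
    have h1 : ∀ a b, ∑ k, (Dm f * G⁻¹) a k * B (N (u k)) (u b) = Dm f a b := fun a b => by
      conv_rhs => rw [← hCG, Matrix.mul_apply]
      exact Finset.sum_congr rfl fun k _ => by rw [d.adj, hu]
    have h2 : ∀ a b, ∑ k, (Dm f * G⁻¹) b k * B (u a) (N (u k)) = Dm f b a := fun a b => by
      rw [← h1]
      exact Finset.sum_congr rfl fun k _ => by rw [hs (u a)]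
    simp only [shift, map_add, map_sum, map_smul, LinearMap.add_apply, LinearMap.sum_apply, LinearMap.smul_apply,
      smul_eq_mul, hNN, mul_zero, Finset.sum_const_zero, add_zero, h1, h2]
    ring
  have hinv : ∀ f u, shift f (shift f u) = u := fun f u => funext fun i => by
    show shift f u i + ∑ k, (Dm f * G⁻¹) i k • N (shift f u k) = u i
    simp only [hNs]
    simp only [shift]
    rw [add_assoc, show ∀ z : V, z + z = 0 from fun z => by rw [← two_smul F z, two_eq, zero_smul], add_zero]
  let P := {p : Fin s × Fin s // p.1 < p.2}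
  let val : (Fin s → V) → P → F := fun u p => B (u p.1.1) (u p.1.2)
  have hfam : ∀ u, (∀ i j, B (u i) (N (u j)) = G i j) → Family B N G (shift (val u) u) := fun u hu => by
    refine ⟨hgr _ _ hu, fun i j => ?_⟩
    rw [hsh _ _ hu]
    rcases lt_trichotomy i j with h | h | h
    · simp [Dm, val, h, h.not_gt, CharTwo.add_self_eq_zero]
    · subst h; simp [Dm, d.alt.self_eq_zero]
    · simp [Dm, val, h, h.not_gt, hs (u i) (u j), CharTwo.add_self_eq_zero]
  have hval : ∀ f u, Family B N G u → val (shift f u) = f := fun f u hu => funext fun q => by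
    show B (shift f u q.1.1) (shift f u q.1.2) = f q
    rw [hsh _ _ hu.gram, hu.iso]
    simp [Dm, q.2, q.2.not_gt]
  let e : {u : Fin s → V // ∀ i j, B (u i) (N (u j)) = G i j} ≃ {u : Fin s → V // Family B N G u} × (P → F) :=
    { toFun := fun u => (⟨shift (val u.1) u.1, hfam u.1 u.2⟩, val u.1)
      invFun := fun p => ⟨shift p.2 p.1.1, hgr p.2 p.1.1 p.1.2.gram⟩
      left_inv := fun u => Subtype.ext (hinv (val u.1) u.1)
      right_inv := fun p => by
        apply Prod.ext
        · apply Subtype.ext
          show shift (val (shift p.2 p.1.1)) (shift p.2 p.1.1) = p.1.1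
          rw [hval p.2 p.1.1 p.1.2, hinv]
        · exact hval p.2 p.1.1 p.1.2 }
  rw [Nat.card_congr e, Nat.card_prod]

theorem card_lt_pairs (s : ℕ) : Nat.card {p : Fin s × Fin s // p.1 < p.2} = s.choose 2 := by
  classical
  let e : {p : Fin s × Fin s // p.1 < p.2} ≃ (Σ j : Fin s, Fin (j : ℕ)) :=
    { toFun := fun p => ⟨p.1.2, ⟨(p.1.1 : ℕ), p.2⟩⟩
      invFun := fun x => ⟨(⟨(x.2 : ℕ), x.2.2.trans x.1.2⟩, x.1), x.2.2⟩
      left_inv := fun _ => rfl
      right_inv := fun _ => rfl }
  rw [Nat.card_congr e, Nat.card_eq_fintype_card, Fintype.card_sigma, Nat.choose_two_right]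
  simp only [Fintype.card_fin]
  rw [Fin.sum_univ_eq_sum_range (fun i => i), Finset.sum_range_id]

theorem Data.card_centN_eq [Fintype F] [Finite V] (d : Data B N G) {w₀ : Fin s → V}
    (hw₀ : ∀ i j, B (w₀ i) (N (w₀ j)) = G i j) {m : ℕ} (hm : finrank F V = 2 * m) :
    s ≤ m ∧ Nat.card (centN B N) = Fintype.card F ^ (2 * m * s - (3 * s ^ 2 - s) / 2) *
      Nat.card {A : Matrix (Fin s) (Fin s) F // A * G * Matrix.transpose A = G} *
      (Fintype.card F ^ ((m - s) ^ 2) * ∏ i ∈ Finset.range (m - s), (Fintype.card F ^ (2 * (i + 1)) - 1)) := by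
  classical
  obtain ⟨w, hw⟩ := exists_adjust d.alt N d.sq d.adj G d.det w₀ hw₀
  have hsm := finrank_family d.alt d.sq d.adj d.det hw
  rw [hm] at hsm
  refine ⟨by omega, ?_⟩
  rw [d.card_centN hw, d.card_fixer_family hw hm]
  congr 1
  have h1 := d.card_gram hw.gram
  rw [d.card_family, Nat.card_fun, card_lt_pairs, Nat.card_fun, Nat.card_fin,
    Module.natCard_eq_pow_finrank (K := F) (V := LinearMap.ker N), Nat.card_eq_fintype_card (α := F)] at h1
  have hker : finrank F (LinearMap.ker N) = 2 * m - s := by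
    have := LinearMap.finrank_range_add_finrank_ker N
    rw [d.rank, hm] at this
    omega
  rw [hker, ← pow_mul] at h1
  have hexp : (2 * m - s) * s = s.choose 2 + (2 * m * s - (3 * s ^ 2 - s) / 2) := by
    have e1 : (2 * m - s) * s = 2 * m * s - s * s := by rw [Nat.sub_mul]
    have e2 : s * s * 2 ≤ 2 * m * s := by
      rw [show s * s * 2 = 2 * s * s by ring]; exact Nat.mul_le_mul_right s (by omega)
    rw [e1, Nat.choose_two_right, pow_two]
    obtain ⟨t, ht⟩ : Even (s * (s - 1)) := Nat.even_mul_pred_self s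
    have e3 : s * (s - 1) + s = s * s := by
      cases s with
      | zero => rfl
      | succ n => simp only [Nat.add_sub_cancel]; ring
    omega
  rw [hexp, pow_add] at h1
  refine Nat.eq_of_mul_eq_mul_right (pow_pos (Fintype.card_pos (α := F)) (s.choose 2)) ?_
  rw [h1]
  ring

end Cfsg.Lib.Linear.SympInv
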