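import Cfsg.Agent.Lib.Linear.Alternating

/-!
# Matrices preserving an alternating form or, in characteristic two, the dot product
-/

set_option autoImplicit false

namespace Cfsg.Lib.Linear.SympInv

open Module Cfsg.Lib.Linear.Symp
open scoped Matrix

variable {F : Type*} [Field F] {n : Type*} [Fintype n] [DecidableEq n]

theorem isUnit_of_gram {A G : Matrix n n F} (hG : G.det ≠ 0) (h : Aᵀ * G * A = G) : IsUnit A := by
  rw [Matrix.isUnit_iff_isUnit_det, isUnit_iff_ne_zero]
  intro h0
  apply hG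
  rw [← h, Matrix.det_mul, h0, mul_zero]

/-- The matrices preserving the form of `G` and fixing `X` pointwise, as linear equivalences. -/
noncomputable def gramEquiv {G : Matrix n n F} (hG : G.det ≠ 0) (X : Submodule F (n → F)) :
    {A : Matrix n n F // Aᵀ * G * A = G ∧ ∀ x ∈ X, A *ᵥ x = x} ≃ fixer (Matrix.toBilin' G) X where
  toFun A := ⟨LinearEquiv.ofBijective A.1.mulVecLin ⟨Matrix.mulVec_injective_iff_isUnit.2 (isUnit_of_gram hG A.2.1), Matrix.mulVec_surjective_iff_isUnit.2 (isUnit_of_gram hG A.2.1)⟩,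
    fun x y => by
      show Matrix.toBilin' G (A.1 *ᵥ x) (A.1 *ᵥ y) = Matrix.toBilin' G x y
      have hM : (A.1)ᵀ * G * A.1 = G := A.2.1
      rw [Matrix.toBilin'_apply', Matrix.toBilin'_apply', dotProduct_comm, ← Matrix.dotProduct_transpose_mulVec,
        Matrix.mulVec_mulVec, Matrix.mulVec_mulVec, hM],
    fun x hx => A.2.2 x hx⟩
  invFun g := ⟨LinearMap.toMatrix' (g.1 : (n → F) →ₗ[F] (n → F)), by
      refine Matrix.toBilin'.injective (LinearMap.ext fun x => LinearMap.ext fun y => ?_)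
      have h := g.2.1 x y
      rw [Matrix.toBilin'_apply', Matrix.toBilin'_apply'] at h ⊢
      rw [← h, ← Matrix.mulVec_mulVec, ← Matrix.mulVec_mulVec, Matrix.dotProduct_mulVec, Matrix.vecMul_transpose]
      simp [LinearMap.toMatrix'_mulVec],
    fun x hx => by rw [LinearMap.toMatrix'_mulVec]; exact g.2.2 x hx⟩
  left_inv A := Subtype.ext (by
    refine Matrix.toLin'.injective (LinearMap.ext fun x => ?_)
    simp only [Matrix.toLin'_apply, LinearMap.toMatrix'_mulVec]
    rfl)
  right_inv g := Subtype.ext (LinearEquiv.ext fun x => by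
    show LinearMap.toMatrix' (g.1 : (n → F) →ₗ[F] (n → F)) *ᵥ x = g.1 x
    rw [LinearMap.toMatrix'_mulVec]; rfl)

theorem card_gram_transpose (G : Matrix n n F) :
    Nat.card {A : Matrix n n F // A * G * Aᵀ = G} = Nat.card {A : Matrix n n F // Aᵀ * G * A = G} :=
  Nat.card_congr ((Equiv.mk Matrix.transpose Matrix.transpose Matrix.transpose_transpose
    Matrix.transpose_transpose : Matrix n n F ≃ Matrix n n F).subtypeEquiv fun A => by
      simp [Matrix.transpose_transpose])

theorem toBilin'_nondegenerate {G : Matrix n n F} (hG : G.det ≠ 0) : (Matrix.toBilin' G).Nondegenerate :=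
  Matrix.Nondegenerate.toBilin' (Matrix.nondegenerate_of_det_ne_zero hG)

variable [Fintype F]

/-- The order of the isometry group of a nondegenerate alternating matrix. -/
theorem card_gram_alt {G : Matrix n n F} (hG : G.det ≠ 0) (halt : ∀ x, x ⬝ᵥ (G *ᵥ x) = 0) {k : ℕ}
    (hk : Fintype.card n = 2 * k) : Nat.card {A : Matrix n n F // A * G * Aᵀ = G} =
      Fintype.card F ^ (k ^ 2) * ∏ i ∈ Finset.range k, (Fintype.card F ^ (2 * (i + 1)) - 1) := by
  classical
  rw [card_gram_transpose,
    Nat.card_congr ((Equiv.subtypeEquivRight fun A => ⟨fun h => ⟨h, fun x hx => by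
      rw [(Submodule.mem_bot F).1 hx, Matrix.mulVec_zero]⟩, fun h => h.1⟩).trans (gramEquiv hG ⊥)), fixer_bot]
  exact card_iso (toBilin'_nondegenerate hG) (fun x => by rw [Matrix.toBilin'_apply']; exact halt x)
    (by rw [Module.finrank_pi, hk])

variable [CharP F 2]

omit [Fintype n] [DecidableEq n] [Fintype F] in
theorem eq_of_sq_eq {a b : F} (h : a ^ 2 = b ^ 2) : a = b := by
  have h1 : (a + b) ^ 2 = 0 := by rw [CharTwo.add_sq, h, CharTwo.add_self_eq_zero]
  exact CharTwo.add_eq_zero.1 (pow_eq_zero_iff (n := 2) two_ne_zero |>.1 h1)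

omit [DecidableEq n] [Fintype F] in
theorem dot_self (x : n → F) : x ⬝ᵥ x = (x ⬝ᵥ 1) ^ 2 := by
  simp only [dotProduct, Pi.one_apply, mul_one, ← pow_two]
  exact (sum_pow_char 2 Finset.univ x).symm

omit [Fintype F] in
theorem mulVec_one_eq {A : Matrix n n F} (h : Aᵀ * A = 1) : A *ᵥ 1 = 1 := by
  have h1 : ∀ x, (A *ᵥ x) ⬝ᵥ 1 = x ⬝ᵥ 1 := fun x => eq_of_sq_eq (by
    rw [← dot_self, ← dot_self, Matrix.dotProduct_mulVec, ← Matrix.mulVec_transpose, Matrix.mulVec_mulVec, h,
      Matrix.one_mulVec])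
  have h2 : Aᵀ *ᵥ 1 = 1 := funext fun i => by
    have := h1 (Pi.single i 1)
    rw [dotProduct_comm, Matrix.dotProduct_mulVec, ← Matrix.mulVec_transpose] at this
    simpa using this
  conv_lhs => rw [← h2]
  rw [Matrix.mulVec_mulVec, mul_eq_one_comm.1 h, Matrix.one_mulVec]

/-- The alternating companion `x ⬝ y + (x ⬝ 1) (y ⬝ 1)` of the dot product. -/
def companion : Matrix n n F := 1 + Matrix.of fun _ _ => 1

omit [Fintype F] [CharP F 2] in
theorem companion_mulVec (x : n → F) : (companion : Matrix n n F) *ᵥ x = x + (x ⬝ᵥ 1) • (1 : n → F) := by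
  rw [companion, Matrix.add_mulVec, Matrix.one_mulVec]
  congr 1
  funext i
  simp [Matrix.mulVec, dotProduct]

omit [Fintype F] in
theorem companion_alt (x : n → F) : x ⬝ᵥ ((companion : Matrix n n F) *ᵥ x) = 0 := by
  rw [companion_mulVec, dotProduct_add, dotProduct_smul, dot_self, smul_eq_mul, ← pow_two,
    CharTwo.add_self_eq_zero]

omit [Fintype F] in
theorem companion_det (hn : Even (Fintype.card n)) : (companion : Matrix n n F).det ≠ 0 := by
  intro h0
  obtain ⟨v, hv, hv'⟩ := Matrix.exists_mulVec_eq_zero_iff.2 h0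
  rw [companion_mulVec] at hv'
  have h1 : (1 : n → F) ⬝ᵥ 1 = 0 := by
    simp only [dotProduct, Pi.one_apply, mul_one, Finset.sum_const, Finset.card_univ, nsmul_eq_mul]
    exact (CharP.cast_eq_zero_iff F 2 _).2 (even_iff_two_dvd.1 hn)
  have h2 := congrArg (fun z => z ⬝ᵥ (1 : n → F)) hv'
  simp only [add_dotProduct, smul_dotProduct, h1, smul_zero, add_zero, zero_dotProduct] at h2
  rw [h2, zero_smul, add_zero] at hv'
  exact hv hv'

omit [Fintype F] in
/-- Orthogonal matrices are the isometries of the companion fixing the all-ones vector. -/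
theorem companion_iff (hn : Even (Fintype.card n)) (A : Matrix n n F) (X : Submodule F (n → F))
    (hX : (1 : n → F) ∈ X) :
    (Aᵀ * A = 1 ∧ ∀ x ∈ X, A *ᵥ x = x) ↔
      (Aᵀ * companion * A = companion ∧ ∀ x ∈ X, A *ᵥ x = x) := by
  refine and_congr_left fun hfix => ?_
  have he := hfix 1 hX
  have key : Aᵀ * companion * A = Aᵀ * A + Matrix.of (fun i j => (Aᵀ *ᵥ 1) i * (Aᵀ *ᵥ 1) j) := by
    ext i j
    simp [companion, Matrix.mul_add, Matrix.add_mul, Matrix.mul_apply, Matrix.mulVec, dotProduct, Finset.sum_mul,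
      Finset.mul_sum, add_mul, Finset.sum_add_distrib]
  have hT : ∀ y : n → F, (A *ᵥ 1 = 1) → (Aᵀ *ᵥ 1) ⬝ᵥ 1 = (1 : n → F) ⬝ᵥ 1 := fun y h => by
    rw [dotProduct_comm, Matrix.dotProduct_mulVec, Matrix.vecMul_transpose, h]
  constructor
  · intro h
    have h1 : Aᵀ *ᵥ 1 = 1 := by
      conv_lhs => rw [← he]
      rw [Matrix.mulVec_mulVec, h, Matrix.one_mulVec]
    rw [key, h, h1, companion]
    simp
  · intro h
    have h1 : Aᵀ *ᵥ 1 = 1 := by
      have hc : (companion : Matrix n n F) *ᵥ 1 = 1 := by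
        rw [companion_mulVec]
        have : (1 : n → F) ⬝ᵥ 1 = 0 := by
          simp only [dotProduct, Pi.one_apply, mul_one, Finset.sum_const, Finset.card_univ, nsmul_eq_mul]
          exact (CharP.cast_eq_zero_iff F 2 _).2 (even_iff_two_dvd.1 hn)
        rw [this, zero_smul, add_zero]
      have := congrArg (fun M => M *ᵥ (1 : n → F)) h
      simp only [← Matrix.mulVec_mulVec, he, hc] at this
      exact this
    rw [key, h1] at h
    simp only [companion, Pi.one_apply, mul_one] at h
    exact add_right_cancel h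

theorem card_dot_fixing (hn : Even (Fintype.card n)) (X : Submodule F (n → F)) (hX : (1 : n → F) ∈ X) :
    Nat.card {A : Matrix n n F // Aᵀ * A = 1 ∧ ∀ x ∈ X, A *ᵥ x = x} =
      Nat.card (fixer (Matrix.toBilin' (companion : Matrix n n F)) X) :=
  Nat.card_congr ((Equiv.subtypeEquivRight fun A => companion_iff hn A X hX).trans
    (gramEquiv (companion_det hn) X))

theorem card_dot_even {k : ℕ} (hk : Fintype.card n = 2 * k) (hk0 : k ≠ 0) :
    Nat.card {A : Matrix n n F // A * 1 * Aᵀ = 1} = Fintype.card F ^ (2 * k - 1) *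
      (Fintype.card F ^ ((k - 1) ^ 2) * ∏ i ∈ Finset.range (k - 1), (Fintype.card F ^ (2 * (i + 1)) - 1)) := by
  classical
  have hn : Even (Fintype.card n) := ⟨k, by omega⟩
  rw [card_gram_transpose]
  simp only [Matrix.mul_one]
  rw [Nat.card_congr (Equiv.subtypeEquivRight (q := fun A : Matrix n n F =>
      Aᵀ * A = 1 ∧ ∀ x ∈ Submodule.span F {(1 : n → F)}, A *ᵥ x = x) fun A => ⟨fun h => ⟨h, fun x hx => by
      obtain ⟨c, rfl⟩ := Submodule.mem_span_singleton.1 hx
      rw [Matrix.mulVec_smul, mulVec_one_eq h]⟩, fun h => h.1⟩),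
    card_dot_fixing hn _ (Submodule.mem_span_singleton_self _)]
  set B := Matrix.toBilin' (companion : Matrix n n F) with hBdef
  have hB : B.Nondegenerate := toBilin'_nondegenerate (companion_det hn)
  have hA : B.IsAlt := fun x => by rw [hBdef, Matrix.toBilin'_apply']; exact companion_alt x
  have hne : Nonempty n := Fintype.card_pos_iff.1 (by omega)
  have h1 : (1 : n → F) ∉ (⊥ : Submodule F (n → F)) := by simp
  have hstep := card_fixer_step hB hA ⊥ h1
  have hord := card_iso hB hA (m := k) (by rw [Module.finrank_pi, hk])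
  rw [fixer_bot, bot_sup_eq, hord] at hstep
  have horb : Nat.card {b : n → F // b ∉ (⊥ : Submodule F (n → F)) ∧ ∀ x ∈ (⊥ : Submodule F (n → F)), B x 1 = B x b} =
      Fintype.card F ^ (2 * k) - 1 := by
    rw [Nat.card_congr (Equiv.subtypeEquivRight (q := fun b : n → F => b ≠ 0) fun b => by simp),
      Nat.card_eq_fintype_card, Fintype.card_subtype_compl, Fintype.card_fun, Fintype.card_subtype_eq, hk]
  rw [horb] at hstep
  obtain ⟨j, rfl⟩ : ∃ j, k = j + 1 := ⟨k - 1, by omega⟩
  have hq : 1 < Fintype.card F ^ (2 * (j + 1)) := Nat.one_lt_pow (by omega) Fintype.one_lt_card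
  refine Nat.eq_of_mul_eq_mul_left (show 0 < Fintype.card F ^ (2 * (j + 1)) - 1 by omega) ?_
  rw [← hstep, Finset.prod_range_succ, show j + 1 - 1 = j by omega, show 2 * (j + 1) - 1 = 2 * j + 1 by omega,
    show (j + 1) ^ 2 = 2 * j + 1 + j ^ 2 by ring, pow_add]
  ring

omit [Fintype F] [CharP F 2] in
theorem transpose_fix {A : Matrix n n F} {v : n → F} (h : Aᵀ * A = 1) (hv : A *ᵥ v = v) : Aᵀ *ᵥ v = v := by
  conv_lhs => rw [← hv]
  rw [Matrix.mulVec_mulVec, h, Matrix.one_mulVec]

omit [Fintype F] [CharP F 2] in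
theorem block_gram {m : Type*} [Fintype m] [DecidableEq m] {M : Matrix (n ⊕ m) (n ⊕ m) F} (h : Mᵀ * M = 1)
    (h21 : M.toBlocks₂₁ = 0) : M.toBlocks₁₁ᵀ * M.toBlocks₁₁ = 1 := by
  rw [← Matrix.fromBlocks_toBlocks M, Matrix.fromBlocks_transpose, Matrix.fromBlocks_multiply, h21,
    Matrix.transpose_zero, Matrix.zero_mul, add_zero, ← Matrix.fromBlocks_one, Matrix.fromBlocks_inj] at h
  exact h.1

/-- Adjoining a fixed coordinate. -/
def dotExtend : {A : Matrix n n F // Aᵀ * A = 1} ≃
    {A : Matrix (n ⊕ Unit) (n ⊕ Unit) F // Aᵀ * A = 1 ∧ A *ᵥ Pi.single (Sum.inr ()) 1 = Pi.single (Sum.inr ()) 1} where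
  toFun A := ⟨Matrix.fromBlocks A.1 0 0 1, by
    rw [Matrix.fromBlocks_transpose, Matrix.fromBlocks_multiply]
    simp [A.2], by
    funext i
    rw [Matrix.mulVec_single_one]
    rcases i with i | i <;> simp⟩
  invFun A := ⟨A.1.toBlocks₁₁, by
    have hT := transpose_fix A.2.1 A.2.2
    have h21 : A.1.toBlocks₂₁ = 0 := Matrix.ext fun a i => by
      have := congrFun hT (Sum.inl i)
      rw [Matrix.mulVec_single_one] at this
      simpa [Matrix.toBlocks₂₁] using this
    exact block_gram A.2.1 h21⟩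
  left_inv A := Subtype.ext (Matrix.toBlocks_fromBlocks₁₁ _ _ _ _)
  right_inv A := Subtype.ext (by
    have hT := transpose_fix A.2.1 A.2.2
    ext i j
    have h1 := congrFun A.2.2 i
    have h2 := congrFun hT j
    rw [Matrix.mulVec_single_one] at h1 h2
    rcases i with i | i <;> rcases j with j | j <;> simp [Matrix.toBlocks₁₁] at h1 h2 ⊢ <;>
      first | exact h1.symm | exact h2.symm)

theorem card_dot_odd {k : ℕ} (hk : Fintype.card n = 2 * k + 1) :
    Nat.card {A : Matrix n n F // A * 1 * Aᵀ = 1} =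
      Fintype.card F ^ (k ^ 2) * ∏ i ∈ Finset.range k, (Fintype.card F ^ (2 * (i + 1)) - 1) := by
  classical
  have hcard : Fintype.card (n ⊕ Unit) = 2 * (k + 1) := by simp [hk]; omega
  have hn : Even (Fintype.card (n ⊕ Unit)) := ⟨k + 1, by omega⟩
  rw [card_gram_transpose]
  simp only [Matrix.mul_one]
  set e : n ⊕ Unit → F := 1 with he
  set δ : n ⊕ Unit → F := Pi.single (Sum.inr ()) 1 with hδ
  set X := (⊥ ⊔ Submodule.span F {e}) ⊔ Submodule.span F {δ} with hXdef
  have hXfix : ∀ A : Matrix (n ⊕ Unit) (n ⊕ Unit) F,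
      (Aᵀ * A = 1 ∧ A *ᵥ δ = δ) ↔ (Aᵀ * A = 1 ∧ ∀ x ∈ X, A *ᵥ x = x) := fun A => by
    refine ⟨fun h => ⟨h.1, fun x hx => ?_⟩,
      fun h => ⟨h.1, h.2 δ (Submodule.mem_sup_right (Submodule.mem_span_singleton_self _))⟩⟩
    have h2 : X ≤ LinearMap.eqLocus A.mulVecLin LinearMap.id := by
      simp only [hXdef, bot_sup_eq, sup_le_iff, Submodule.span_le, Set.singleton_subset_iff]
      exact ⟨mulVec_one_eq h.1, h.2⟩
    exact h2 hx
  rw [Nat.card_congr (dotExtend.trans (Equiv.subtypeEquivRight hXfix)), card_dot_fixing hn X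
    (Submodule.mem_sup_left (Submodule.mem_sup_right (Submodule.mem_span_singleton_self _)))]
  set B := Matrix.toBilin' (companion : Matrix (n ⊕ Unit) (n ⊕ Unit) F) with hBdef
  have hB : B.Nondegenerate := toBilin'_nondegenerate (companion_det hn)
  have hA : B.IsAlt := fun x => by rw [hBdef, Matrix.toBilin'_apply']; exact companion_alt x
  have hed : B e δ = 1 := by
    have h0 : e ⬝ᵥ e = 0 := by
      simp only [he, dotProduct, Pi.one_apply, mul_one, Finset.sum_const, Finset.card_univ, nsmul_eq_mul]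
      exact (CharP.cast_eq_zero_iff F 2 _).2 (even_iff_two_dvd.1 hn)
    rw [hBdef, Matrix.toBilin'_apply', companion_mulVec, dotProduct_add, dotProduct_smul, ← he, h0, smul_zero,
      add_zero, hδ, dotProduct_single, he, Pi.one_apply, mul_one]
  have hnd := inf_perp_hyperbolic hA ⊥ (by simp) (e := e) (f := δ) (by simp) (by simp) hed
  obtain ⟨j, hj, hjc⟩ := card_fixer hB hA _ X hnd le_rfl
  have hXd : finrank F X = 2 := by
    have h1 : e ∉ (⊥ : Submodule F (n ⊕ Unit → F)) := fun h => by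
      rw [Submodule.mem_bot] at h
      simpa [he] using congrFun h (Sum.inr ())
    have h2 : δ ∉ ⊥ ⊔ Submodule.span F {e} := fun h => by
      rw [bot_sup_eq, Submodule.mem_span_singleton] at h
      obtain ⟨c, hc⟩ := h
      rw [← hc, map_smul, hA.self_eq_zero, smul_zero] at hed
      exact zero_ne_one hed
    rw [hXdef, Submodule.finrank_sup_span_singleton h2, Submodule.finrank_sup_span_singleton h1, finrank_bot]
  rw [LinearMap.BilinForm.finrank_orthogonal hB, hXd, Module.finrank_pi, hcard] at hj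
  rw [hjc, show j = k by omega]

end Cfsg.Lib.Linear.SympInv
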