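import Cfsg.Agent.Lib.Linear.SympInvCent.Count
import Cfsg.Agent.Lib.Linear.SympInvCent.Dot
import Cfsg.Agent.S2166

/-!
# Centraliser orders of involutions of symplectic groups in characteristic two
-/

set_option autoImplicit false

namespace Cfsg.Lib.Linear.SympInv

open Module Cfsg.Lib.Linear.Symp Cfsg.Agent.S2166
open scoped Matrix

variable {F : Type*} [Field F] [Fintype F] [CharP F 2] {m : ℕ}

theorem card_centralizer (t : Matrix.symplecticGroup (Fin m) F) :
    Nat.card ↥(Subgroup.centralizer ({t} : Set ↥(Matrix.symplecticGroup (Fin m) F))) =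
      Nat.card (centN (spB m F) (nil t)) := by
  refine Nat.card_congr (((spEquiv (m := m) (F := F)).toEquiv.subtypeEquiv fun g => ?_).trans
    { toFun := fun g : {g : iso (spB m F) // ∀ x, g.1 (nil t x) = nil t (g.1 x)} => ⟨g.1.1, g.1.2, g.2⟩
      invFun := fun g => ⟨⟨g.1, g.2.1⟩, g.2.2⟩
      left_inv := fun _ => rfl
      right_inv := fun _ => rfl })
  rw [Subgroup.mem_centralizer_singleton_iff]
  have hg : ∀ x, (spEquiv g : (Fin m ⊕ Fin m → F) ≃ₗ[F] _) x =
      (g : Matrix (Fin m ⊕ Fin m) (Fin m ⊕ Fin m) F) *ᵥ x := fun x => spEquiv_apply _ _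
  show _ ↔ ∀ x, (spEquiv g : (Fin m ⊕ Fin m → F) ≃ₗ[F] _) (nil t x) = nil t ((spEquiv g : (Fin m ⊕ Fin m → F) ≃ₗ[F] _) x)
  simp only [hg, nil_apply, Matrix.mulVec_sub, sub_left_inj, Matrix.mulVec_mulVec, ← Submonoid.coe_mul]
  constructor
  · intro h x
    rw [h]
  · intro h
    exact Subtype.ext (Matrix.toLin'.injective (LinearMap.ext fun x => by simpa [Matrix.toLin'_apply] using h x))

variable {q s : ℕ} {t : Matrix.symplecticGroup (Fin m) F}

theorem data_of {G : Matrix (Fin s) (Fin s) F} (ht : t ^ 2 = 1)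
    (hs : ((t : Matrix (Fin m ⊕ Fin m) (Fin m ⊕ Fin m) F) - 1).rank = s) (hG : G.det ≠ 0) :
    Data (spB m F) (nil t) G := by
  obtain ⟨h1, h2⟩ := nil_props t (by rw [← pow_two]; exact ht)
  exact ⟨spB_nondegenerate m F, spB_isAlt m F, h1, h2, (rank_eq t) ▸ hs, hG⟩

theorem card_orth_data (ht : t ^ 2 = 1) (hs : ((t : Matrix (Fin m ⊕ Fin m) (Fin m ⊕ Fin m) F) - 1).rank = s)
    (hna : ∃ v, spB m F v (nil t v) ≠ 0) :
    s ≠ 0 ∧ s ≤ m ∧ Nat.card ↥(Subgroup.centralizer ({t} : Set ↥(Matrix.symplecticGroup (Fin m) F))) =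
      Fintype.card F ^ (2 * m * s - (3 * s ^ 2 - s) / 2) *
      Nat.card {A : Matrix (Fin s) (Fin s) F // A * 1 * Aᵀ = 1} *
      (Fintype.card F ^ ((m - s) ^ 2) * ∏ i ∈ Finset.range (m - s), (Fintype.card F ^ (2 * (i + 1)) - 1)) := by
  classical
  have d := data_of (G := (1 : Matrix (Fin s) (Fin s) F)) ht hs (by rw [Matrix.det_one]; exact one_ne_zero)
  obtain ⟨v, hv⟩ := hna
  obtain ⟨r, u, -, huu, hur⟩ := exists_orthonormal (assoc (spB m F) (nil t))
    (fun x y => by rw [assoc_apply, assoc_apply, ← d.adj, sym_of_alt d.alt]) _ ⊤ le_rfl ⟨v, Submodule.mem_top, hv⟩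
  obtain rfl : r = s := (finrank_orthonormal d.nd u huu fun w y => hur w Submodule.mem_top y Submodule.mem_top).symm.trans
    ((rank_eq t) ▸ hs)
  refine ⟨fun h0 => hv ?_, ?_⟩
  · have h1 : LinearMap.range (nil t) = ⊥ := Submodule.finrank_eq_zero.1 (d.rank.trans h0)
    have h2 := LinearMap.mem_range_self (nil t) v
    rw [h1, Submodule.mem_bot] at h2
    rw [h2, map_zero]
  rw [card_centralizer]
  exact d.card_centN_eq (fun i j => by rw [Matrix.one_apply]; exact huu i j) finrank_space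

theorem card_odd (hF : Fintype.card F = q) (ht : t ^ 2 = 1)
    (hs : ((t : Matrix (Fin m ⊕ Fin m) (Fin m ⊕ Fin m) F) - 1).rank = s) (hodd : Odd s) :
    Nat.card ↥(Subgroup.centralizer ({t} : Set ↥(Matrix.symplecticGroup (Fin m) F))) =
      q ^ (2 * m * s - (3 * s ^ 2 - s) / 2) *
        ((q : ℕ) ^ (((s - 1) / 2) ^ 2) * ∏ i : Fin ((s - 1) / 2), (q ^ (2 * ((i : ℕ) + 1)) - 1)) *
        ((q : ℕ) ^ ((m - s) ^ 2) * ∏ i : Fin (m - s), (q ^ (2 * ((i : ℕ) + 1)) - 1)) := by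
  have hna : ∃ v, spB m F v (nil t v) ≠ 0 := by
    by_contra h
    push Not at h
    have := rank_even (spB_nondegenerate m F) (nil t) (nil_props t (by rw [← pow_two]; exact ht)).2 h
    rw [← rank_eq, hs] at this
    exact (Nat.not_even_iff_odd.2 hodd) this
  obtain ⟨k, rfl⟩ := hodd
  obtain ⟨-, -, hc⟩ := card_orth_data ht hs hna
  rw [hc, card_dot_odd (k := k) (Fintype.card_fin _), hF,
    show (2 * k + 1 - 1) / 2 = k by omega,
    Fin.prod_univ_eq_prod_range (fun i => q ^ (2 * (i + 1)) - 1),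
    Fin.prod_univ_eq_prod_range (fun i => q ^ (2 * (i + 1)) - 1)]

theorem card_even_orth (hF : Fintype.card F = q) (ht : t ^ 2 = 1)
    (hs : ((t : Matrix (Fin m ⊕ Fin m) (Fin m ⊕ Fin m) F) - 1).rank = s) (heven : Even s)
    (hna : ∃ v, spB m F v (nil t v) ≠ 0) :
    Nat.card ↥(Subgroup.centralizer ({t} : Set ↥(Matrix.symplecticGroup (Fin m) F))) =
      q ^ (2 * m * s - (3 * s ^ 2 - 3 * s) / 2 - 1) *
        ((q : ℕ) ^ (((s - 2) / 2) ^ 2) * ∏ i : Fin ((s - 2) / 2), (q ^ (2 * ((i : ℕ) + 1)) - 1)) *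
        ((q : ℕ) ^ ((m - s) ^ 2) * ∏ i : Fin (m - s), (q ^ (2 * ((i : ℕ) + 1)) - 1)) := by
  obtain ⟨k, rfl⟩ := heven
  obtain ⟨hs0, hsm, hc⟩ := card_orth_data ht hs hna
  have hk0 : k ≠ 0 := by omega
  rw [hc, card_dot_even (k := k) (by rw [Fintype.card_fin]; omega) hk0, hF,
    show (k + k - 2) / 2 = k - 1 by omega,
    Fin.prod_univ_eq_prod_range (fun i => q ^ (2 * (i + 1)) - 1),
    Fin.prod_univ_eq_prod_range (fun i => q ^ (2 * (i + 1)) - 1)]
  have hexp : 2 * m * (k + k) - (3 * (k + k) ^ 2 - 3 * (k + k)) / 2 - 1 =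
      2 * m * (k + k) - (3 * (k + k) ^ 2 - (k + k)) / 2 + (2 * k - 1) := by
    have h1 : (3 * (k + k) ^ 2 - 3 * (k + k)) / 2 = 6 * (k * k) - 3 * k := by
      rw [show 3 * (k + k) ^ 2 = 12 * (k * k) by ring]; omega
    have h2 : (3 * (k + k) ^ 2 - (k + k)) / 2 = 6 * (k * k) - k := by
      rw [show 3 * (k + k) ^ 2 = 12 * (k * k) by ring]; omega
    have h3 : 8 * (k * k) ≤ 2 * m * (k + k) := by
      rw [show 8 * (k * k) = 2 * (k + k) * (k + k) by ring]
      exact Nat.mul_le_mul_right _ (by omega)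
    have h4 : k ≤ k * k := Nat.le_mul_self k
    omega
  rw [hexp, pow_add]
  ring

theorem card_even_alt (hF : Fintype.card F = q) (ht : t ^ 2 = 1)
    (hs : ((t : Matrix (Fin m ⊕ Fin m) (Fin m ⊕ Fin m) F) - 1).rank = s) (heven : Even s)
    (halt : ∀ v, spB m F v (nil t v) = 0) :
    Nat.card ↥(Subgroup.centralizer ({t} : Set ↥(Matrix.symplecticGroup (Fin m) F))) =
      q ^ (2 * m * s - (3 * s ^ 2 - s) / 2) *
        ((q : ℕ) ^ ((s / 2) ^ 2) * ∏ i : Fin (s / 2), (q ^ (2 * ((i : ℕ) + 1)) - 1)) *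
        ((q : ℕ) ^ ((m - s) ^ 2) * ∏ i : Fin (m - s), (q ^ (2 * ((i : ℕ) + 1)) - 1)) := by
  classical
  obtain ⟨hsq, hadj⟩ := nil_props t (by rw [← pow_two]; exact ht)
  obtain ⟨X, hX, hnd⟩ := exists_complement (spB_nondegenerate m F) (nil t) hadj
  rw [← rank_eq, hs] at hX
  let b := Module.finBasisOfFinrankEq F X hX
  let G : Matrix (Fin s) (Fin s) F := Matrix.of fun i j => spB m F (b i : _) (nil t (b j : _))
  have hval : ∀ c d : Fin s → F, c ⬝ᵥ (G *ᵥ d) =
      spB m F ((∑ i, c i • b i : X) : _) (nil t ((∑ i, d i • b i : X) : _)) := fun c d => by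
    simp only [G, dotProduct, Matrix.mulVec, Matrix.of_apply, Submodule.coe_sum, Submodule.coe_smul, map_sum, map_smul,
      LinearMap.sum_apply, LinearMap.smul_apply, smul_eq_mul, Finset.mul_sum]
    rw [Finset.sum_comm]
    exact Finset.sum_congr rfl fun i _ => Finset.sum_congr rfl fun j _ => by ring
  have hG : G.det ≠ 0 := by
    intro h0
    obtain ⟨a, ha, ha'⟩ := Matrix.exists_vecMul_eq_zero_iff.2 h0
    set z : X := ∑ i, a i • b i with hz'
    have hz : z ≠ 0 := fun h => ha (funext fun i => Fintype.linearIndependent_iff.1 b.linearIndependent a h i)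
    obtain ⟨y, hy, hzy⟩ := hnd _ z.2 fun h => hz (Subtype.ext h)
    apply hzy
    rw [assoc_apply, show y = ((∑ j, b.repr ⟨y, hy⟩ j • b j : X) : _) by rw [b.sum_repr], hz', ← hval,
      Matrix.dotProduct_mulVec, ha', zero_dotProduct]
  have hs2 : Fintype.card (Fin s) = 2 * (s / 2) := by
    rw [Fintype.card_fin]; rw [Nat.even_iff] at heven; omega
  have d := data_of (G := G) ht hs hG
  obtain ⟨-, hc⟩ := d.card_centN_eq (w₀ := fun i => (b i : _)) (fun i j => rfl) finrank_space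
  rw [card_centralizer, hc, card_gram_alt hG (fun x => by rw [hval]; exact halt _) (k := s / 2) hs2, hF,
    Fin.prod_univ_eq_prod_range (fun i => q ^ (2 * (i + 1)) - 1),
    Fin.prod_univ_eq_prod_range (fun i => q ^ (2 * (i + 1)) - 1)]

end Cfsg.Lib.Linear.SympInv
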