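import Cfsg.Agent.Lib.Linear.SympInvCent.Main
import Cfsg.Agent.Lib.Linear.OrthInvolutionStd

/-!
# Centralisers of involutions of orthogonal groups in characteristic two

The centraliser in the orthogonal group is the stabiliser of the quadratic form in the symplectic centraliser;
the orbit of the form consists of the translates by fixed vectors `a` with `Q a` of the shape `u ^ 2 + u`.
-/

set_option autoImplicit false

namespace Cfsg.Lib.Linear.OrthInvolCent

open Module Cfsg.Lib.Linear.Orth Cfsg.Lib.Linear.OrthInvol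
open Cfsg.Agent.S2166 (nil nil_apply nil_props)
open scoped Matrix

variable {F : Type*} [Field F] [Fintype F] [CharP F 2] {m : ℕ}
  {Q : (Fin m ⊕ Fin m → F) → F} (C : Space Q (Symp.spB m F))

local notation "V" => (Fin m ⊕ Fin m → F)

/-- The fixed vectors giving the orbit of `Q`. -/
def orb (x : ↥(Cfsg.isometryGroup F Q)) : Type _ := {a : V // nil (toSp C x) a = 0 ∧ InJ (Q a)}

theorem act_of_nil {x : ↥(Cfsg.isometryGroup F Q)} {a : V} (ha : nil (toSp C x) a = 0) :
    (x : GL (Fin m ⊕ Fin m) F).val *ᵥ a = a := by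
  rw [nil_apply, sub_eq_zero] at ha
  exact ha

theorem card_centralizer_sp {k : ℕ} (hm : m = k + 1) (x : ↥(Cfsg.isometryGroup F Q)) :
    Nat.card ↥(Subgroup.centralizer ({toSp C x} : Set ↥(Matrix.symplecticGroup (Fin m) F))) =
      Nat.card ↥(Subgroup.centralizer ({x} : Set ↥(Cfsg.isometryGroup F Q))) * Nat.card (orb C x) := by
  classical
  have h2 : (2 : F) = 0 := CharTwo.two_eq_zero
  have hι : Fintype.card (Fin m ⊕ Fin m) = 2 * (k + 1) := by simp; omega
  have hx : ∀ v, Q ((x : GL (Fin m ⊕ Fin m) F).val *ᵥ v) = Q v := mem_iso.1 x.2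
  have ex : ∀ a : orb C x, ∃ τ : ↥(Matrix.symplecticGroup (Fin m) F),
      τ * toSp C x = toSp C x * τ ∧ ∀ v, Q (τ.1 *ᵥ v) = tr Q (Symp.spB m F) a.1 v := by
    rintro ⟨a, ha, hJ⟩
    obtain ⟨g, hgB, hgQ, c, hgc⟩ := exists_trans' C h2 hJ
    refine ⟨⟨g.val, (Symp.mem_symplecticGroup_iff _).2 hgB⟩, Subtype.ext (mat_ext fun v => ?_), hgQ⟩
    show (g.val * (x : GL (Fin m ⊕ Fin m) F).val) *ᵥ v = ((x : GL (Fin m ⊕ Fin m) F).val * g.val) *ᵥ v
    have hBa : Symp.spB m F a ((x : GL (Fin m ⊕ Fin m) F).val *ᵥ v) = Symp.spB m F a v := by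
      conv_lhs => rw [← act_of_nil C ha]
      exact C.B_act x.2 a v
    rw [← Matrix.mulVec_mulVec, ← Matrix.mulVec_mulVec, hgc, hgc, Matrix.mulVec_add, Matrix.mulVec_smul,
      act_of_nil C ha, hBa]
  choose τ hτc hτQ using ex
  have hcomm : ∀ (c : ↥(Matrix.symplecticGroup (Fin m) F)), c * toSp C x = toSp C x * c → ∀ v,
      c.1 *ᵥ ((x : GL (Fin m ⊕ Fin m) F).val *ᵥ v) = (x : GL (Fin m ⊕ Fin m) F).val *ᵥ (c.1 *ᵥ v) := fun c hc v => by
    rw [Matrix.mulVec_mulVec, Matrix.mulVec_mulVec]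
    exact congrArg (fun g : ↥(Matrix.symplecticGroup (Fin m) F) => g.1 *ᵥ v) hc
  let f : ↥(Subgroup.centralizer ({x} : Set ↥(Cfsg.isometryGroup F Q))) × orb C x →
      ↥(Subgroup.centralizer ({toSp C x} : Set ↥(Matrix.symplecticGroup (Fin m) F))) := fun p =>
    ⟨toSp C p.1.1 * τ p.2, by
      rw [Subgroup.mem_centralizer_singleton_iff]
      have h1 : toSp C p.1.1 * toSp C x = toSp C x * toSp C p.1.1 := by
        rw [← map_mul, ← map_mul, Subgroup.mem_centralizer_singleton_iff.1 p.1.2]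
      rw [mul_assoc, hτc, ← mul_assoc, h1, mul_assoc]⟩
  have hfQ : ∀ p v, Q ((f p).1.1 *ᵥ v) = tr Q (Symp.spB m F) p.2.1 v := fun p v => by
    show Q ((((p.1.1 : ↥(Cfsg.isometryGroup F Q)) : GL (Fin m ⊕ Fin m) F).val * (τ p.2).1) *ᵥ v) = _
    rw [← Matrix.mulVec_mulVec, mem_iso.1 p.1.1.2, hτQ]
  rw [← Nat.card_prod]
  refine (Nat.card_eq_of_bijective f ⟨fun p p' h => ?_, fun c => ?_⟩).symm
  · have ha : p.2 = p'.2 := Subtype.ext (tr_injective C h2 (funext fun v => by rw [← hfQ, ← hfQ, h]))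
    refine Prod.ext (Subtype.ext (Subtype.ext (Units.ext ?_))) ha
    have h1 := congrArg Subtype.val h
    simp only [f, ha] at h1
    exact congrArg Subtype.val (mul_right_cancel h1)
  · obtain ⟨c, hc⟩ := c
    have hc' := hcomm c (Subgroup.mem_centralizer_singleton_iff.1 hc)
    have hcB : ∀ u v, Symp.spB m F (c.1 *ᵥ u) (c.1 *ᵥ v) = Symp.spB m F u v := (Symp.mem_symplecticGroup_iff _).1 c.2
    have CΦ : Space (fun v => Q (c.1 *ᵥ v)) (Symp.spB m F) := ⟨fun a v => by
        rw [Matrix.mulVec_smul, C.smul], fun u v => by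
        show Q (c.1 *ᵥ (u + v)) - Q (c.1 *ᵥ u) - Q (c.1 *ᵥ v) = _
        rw [Matrix.mulVec_add, C.add, hcB]
        ring, C.nondeg⟩
    obtain ⟨a, ha⟩ := exists_tr C h2 CΦ
    have haQ : ∀ v, tr Q (Symp.spB m F) a v = Q (c.1 *ᵥ v) := congrFun ha
    have hax : nil (toSp C x) a = 0 := by
      have h1 : ∀ v, Symp.spB m F a ((x : GL (Fin m ⊕ Fin m) F).val *ᵥ v) = Symp.spB m F a v := fun v => by
        refine sq_injective_two h2 (add_left_cancel (a := Q v) ?_)
        calc Q v + Symp.spB m F a ((x : GL (Fin m ⊕ Fin m) F).val *ᵥ v) ^ 2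
            = tr Q (Symp.spB m F) a ((x : GL (Fin m ⊕ Fin m) F).val *ᵥ v) := by rw [tr, hx]
          _ = tr Q (Symp.spB m F) a v := by rw [haQ, haQ, hc', hx]
          _ = _ := rfl
      have h3 : (x : GL (Fin m ⊕ Fin m) F).val *ᵥ a = a := sub_eq_zero.1 (C.nondeg' fun u => by
        obtain ⟨w, rfl⟩ : ∃ w, (x : GL (Fin m ⊕ Fin m) F).val *ᵥ w = u := ⟨_, act_inv _ u⟩
        rw [map_sub, LinearMap.sub_apply, C.B_act x.2, h1, sub_self])
      rw [nil_apply, sub_eq_zero]
      exact h3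
    have hJ : InJ (Q a) := by
      refine (Cfsg.Agent.S5983.inJ_iff_count C h2 hι).mpr ?_
      let g : GL (Fin m ⊕ Fin m) F := toGL c.1
      have hg : g.val = c.1 := toGL_val (M' := (c⁻¹).1) (by rw [← Submonoid.coe_mul, mul_inv_cancel, Submonoid.coe_one])
      rw [← natCard_singular_comp (Q := Q) (g := g)]
      exact Nat.card_congr (Equiv.subtypeEquivRight fun v => by rw [haQ, hg])
    set A : orb C x := ⟨a, hax, hJ⟩
    set d := c * (τ A)⁻¹ with hd
    have hdQ : ∀ v, Q (d.1 *ᵥ v) = Q v := fun v => by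
      have h1 : (τ A).1 *ᵥ (((τ A)⁻¹).1 *ᵥ v) = v := by
        rw [Matrix.mulVec_mulVec, ← Submonoid.coe_mul, mul_inv_cancel, Submonoid.coe_one, Matrix.one_mulVec]
      rw [hd, Submonoid.coe_mul, ← Matrix.mulVec_mulVec, ← haQ]
      show tr Q (Symp.spB m F) A.1 _ = _
      rw [← hτQ, h1]
    let g : ↥(Cfsg.isometryGroup F Q) := ⟨toGL d.1, mem_iso.2 fun v => by
      rw [toGL_val (M' := (d⁻¹).1) (by rw [← Submonoid.coe_mul, mul_inv_cancel, Submonoid.coe_one])]
      exact hdQ v⟩
    have hg : toSp C g = d := Subtype.ext (toGL_val (M' := (d⁻¹).1)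
      (by rw [← Submonoid.coe_mul, mul_inv_cancel, Submonoid.coe_one]))
    have hgc : g ∈ Subgroup.centralizer ({x} : Set ↥(Cfsg.isometryGroup F Q)) := by
      rw [Subgroup.mem_centralizer_singleton_iff]
      have hinj : Function.Injective (toSp C) := fun u v h => Subtype.ext (Units.ext (congrArg Subtype.val h))
      refine hinj ?_
      rw [map_mul, map_mul, hg, hd]
      have h1 : Commute (τ A) (toSp C x) := hτc A
      exact Commute.mul_left (Subgroup.mem_centralizer_singleton_iff.1 hc) h1.inv_left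
    refine ⟨(⟨g, hgc⟩, A), Subtype.ext ?_⟩
    show toSp C g * τ A = c
    rw [hg, hd, inv_mul_cancel_right]

/-! ### Counting the translations -/

omit [Fintype F] in
theorem inJ_add {s t : F} (hs : InJ s) (ht : InJ t) : InJ (s + t) :=
  (mem_range_asHom (CharTwo.two_eq_zero (R := F))).1 (AddSubgroup.add_mem _
    ((mem_range_asHom (CharTwo.two_eq_zero (R := F))).2 hs) ((mem_range_asHom (CharTwo.two_eq_zero (R := F))).2 ht))

theorem inJ_add_iff {s t : F} : InJ (s + t) ↔ (InJ s ↔ InJ t) := by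
  classical
  have hidx : (asHom (CharTwo.two_eq_zero (R := F))).range.index = 2 := by
    have h := (asHom (CharTwo.two_eq_zero (R := F))).range.card_mul_index
    rw [← two_card_J (F := F) CharTwo.two_eq_zero] at h
    have hpos : 0 < Nat.card (asHom (CharTwo.two_eq_zero (R := F))).range := Nat.card_pos
    exact Nat.eq_of_mul_eq_mul_left hpos (h.trans (mul_comm _ _))
  simp only [← mem_range_asHom (CharTwo.two_eq_zero (R := F))]
  exact AddSubgroup.add_mem_iff_of_index_two hidx

/-- The sign of `t` according to `InJ`. -/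
noncomputable def sgn (t : F) : ℤ := by classical exact if InJ t then 1 else -1

theorem sgn_add (s t : F) : sgn (s + t) = sgn s * sgn t := by
  classical
  unfold sgn
  by_cases hs : InJ s <;> by_cases ht : InJ t <;> simp [hs, ht, inJ_add_iff]

omit [Fintype F] in
theorem sgn_zero : sgn (0 : F) = 1 := by
  classical
  exact if_pos ⟨0, by ring⟩

theorem exists_not_inJ : ∃ t : F, ¬ InJ t := by
  classical
  by_contra h
  push Not at h
  have h1 := two_card_J (F := F) CharTwo.two_eq_zero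
  have h2 : (asHom (CharTwo.two_eq_zero (R := F))).range = ⊤ := eq_top_iff.2 fun t _ =>
    (mem_range_asHom _).2 (h t)
  rw [h2, AddSubgroup.card_top] at h1
  have : 0 < Nat.card F := Nat.card_pos
  omega

theorem sum_sgn_linear_eq {W : Type*} [AddCommGroup W] [Module F W] [Fintype W]
    (φ : W →ₗ[F] F) [Decidable (φ = 0)] :
    ∑ w, sgn (φ w) = if φ = 0 then (Fintype.card W : ℤ) else 0 := by
  classical
  split_ifs with h
  · simp [h, sgn_zero]
  · obtain ⟨w, hw⟩ : ∃ w, φ w ≠ 0 := by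
      by_contra hc; push Not at hc; exact h (LinearMap.ext hc)
    obtain ⟨t, ht⟩ := exists_not_inJ (F := F)
    set u := (t / φ w) • w
    have hu : sgn (φ u) = -1 := by
      rw [map_smul, smul_eq_mul, div_mul_cancel₀ _ hw]; exact if_neg ht
    have h1 := Equiv.sum_comp (Equiv.addRight u) (fun w => sgn (φ w))
    simp only [Equiv.coe_addRight, map_add, sgn_add, hu, mul_neg, mul_one, Finset.sum_neg_distrib] at h1
    omega

theorem sum_sgn_plus (m : ℕ) :
    ∑ v : Fin m ⊕ Fin m → F, sgn (Cfsg.quadFormPlus m F v) = (Fintype.card F : ℤ) ^ m := by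
  classical
  let φ : (Fin m → F) → ((Fin m → F) →ₗ[F] F) := fun a => Fintype.linearCombination F a
  have hQ : ∀ a b : Fin m → F, Cfsg.quadFormPlus m F (Sum.elim a b) = φ a b := fun a b => by
    simp [φ, Cfsg.quadFormPlus, Fintype.linearCombination_apply, mul_comm]
  rw [← (Equiv.sumArrowEquivProdArrow (Fin m) (Fin m) F).symm.sum_comp (fun v => sgn (Cfsg.quadFormPlus m F v)),
    Fintype.sum_prod_type]
  simp only [Equiv.sumArrowEquivProdArrow, Equiv.coe_fn_symm_mk, hQ, sum_sgn_linear_eq]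
  rw [Finset.sum_eq_single (0 : Fin m → F)]
  · rw [if_pos (LinearMap.ext fun b => by simp [φ, Fintype.linearCombination_apply]), Fintype.card_fun, Fintype.card_fin]
    push_cast
    rfl
  · intro a _ ha
    refine if_neg fun h => ha (funext fun i => ?_)
    simpa [φ, Fintype.linearCombination_apply, Pi.single_apply] using LinearMap.congr_fun h (Pi.single i 1)
  · intro h
    exact absurd (Finset.mem_univ _) h

theorem Q_nil (x : ↥(Cfsg.isometryGroup F Q)) (v : V) :
    Q (nil (toSp C x) v) = Symp.spB m F v (nil (toSp C x) v) := by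
  have h2 : (2 : F) = 0 := CharTwo.two_eq_zero
  have h := mem_iso.1 x.2 v
  rw [show (x : GL (Fin m ⊕ Fin m) F).val *ᵥ v = v + nil (toSp C x) v by
    rw [nil_apply]; exact (add_sub_cancel v _).symm, C.add] at h
  linear_combination h - Symp.spB m F v (nil (toSp C x) v) * h2

theorem card_ker {x : ↥(Cfsg.isometryGroup F Q)} {s : ℕ} (hs : rk C x = s) :
    Nat.card (LinearMap.ker (nil (toSp C x))) = Fintype.card F ^ (2 * m - s) := by
  rw [Module.natCard_eq_pow_finrank (K := F), Nat.card_eq_fintype_card]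
  congr 1
  have h := LinearMap.finrank_range_add_finrank_ker (nil (toSp C x))
  rw [Symp.finrank_space] at h
  have : finrank F (LinearMap.range (nil (toSp C x))) = s := hs
  omega

/-- When `v ↦ f(v, xv)` is not zero, exactly half of the fixed vectors translate `Q` within its orbit. -/
theorem two_card_orb_nonalt {x : ↥(Cfsg.isometryGroup F Q)} (hx : x ^ 2 = 1) {s : ℕ} (hs : rk C x = s)
    (hna : ¬ Alt C x) : 2 * Nat.card (orb C x) = Fintype.card F ^ (2 * m - s) := by
  classical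
  have hxx : toSp C x * toSp C x = 1 := by rw [← map_mul, ← pow_two, hx, map_one]
  obtain ⟨hN2, hadj⟩ := nil_props (toSp C x) hxx
  obtain ⟨v, hv⟩ : ∃ v, Symp.spB m F v (nil (toSp C x) v) ≠ 0 := by
    by_contra h; push Not at h; exact hna h
  obtain ⟨t, ht⟩ := exists_not_inJ (F := F)
  obtain ⟨c, hc⟩ := exists_sqrt_two (CharTwo.two_eq_zero (R := F)) (t * (Symp.spB m F v (nil (toSp C x) v))⁻¹)
  set r := nil (toSp C x) (c • v) with hr
  have hrQ : ¬ InJ (Q r) := by
    rw [hr, map_smul, C.smul, Q_nil C, hc, mul_assoc, inv_mul_cancel₀ hv, mul_one]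
    exact ht
  have hrN : nil (toSp C x) r = 0 := hN2 _
  have hflip : ∀ a, nil (toSp C x) a = 0 → (InJ (Q (a + r)) ↔ ¬ InJ (Q a)) := fun a ha => by
    have hB : Symp.spB m F a r = 0 := by rw [hr, ← hadj, ha, map_zero, LinearMap.zero_apply]
    rw [C.add, hB, add_zero, inJ_add_iff]
    tauto
  have hrr : ∀ a : V, a + r + r = a := fun a => funext fun i => by
    simp only [Pi.add_apply, add_assoc, CharTwo.add_self_eq_zero, add_zero]
  let K := LinearMap.ker (nil (toSp C x))
  let e1 : orb C x ≃ {a : K // InJ (Q a.1)} :=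
    { toFun := fun a => ⟨⟨a.1, a.2.1⟩, a.2.2⟩
      invFun := fun a => ⟨a.1.1, a.1.2, a.2⟩
      left_inv := fun _ => rfl
      right_inv := fun _ => rfl }
  let e2 : {a : K // InJ (Q a.1)} ≃ {a : K // ¬ InJ (Q a.1)} :=
    { toFun := fun a => ⟨⟨a.1.1 + r, K.add_mem a.1.2 hrN⟩, fun h => (hflip _ a.1.2).1 h a.2⟩
      invFun := fun a => ⟨⟨a.1.1 + r, K.add_mem a.1.2 hrN⟩, (hflip _ a.1.2).2 a.2⟩
      left_inv := fun a => Subtype.ext (Subtype.ext (hrr _))
      right_inv := fun a => Subtype.ext (Subtype.ext (hrr _)) }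
  rw [← card_ker C hs, ← Nat.card_congr (Equiv.sumCompl fun a : K => InJ (Q a.1)), Nat.card_sum,
    ← Nat.card_congr e2, Nat.card_congr e1]
  ring

/-- When `v ↦ f(v, xv)` is zero, the sum of signs over the fixed vectors is that over the space. -/
theorem two_card_orb_alt {x : ↥(Cfsg.isometryGroup F Q)} (hx : x ^ 2 = 1) {s : ℕ} (hs : rk C x = s)
    (ha : Alt C x) :
    2 * (Nat.card (orb C x) : ℤ) = (Fintype.card F : ℤ) ^ (2 * m - s) + ∑ v : V, sgn (Q v) := by
  classical
  have hxx : toSp C x * toSp C x = 1 := by rw [← map_mul, ← pow_two, hx, map_one]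
  obtain ⟨hN2, hadj⟩ := nil_props (toSp C x) hxx
  set N := nil (toSp C x)
  set R := LinearMap.range N
  have hRQ : ∀ r : R, Q r.1 = 0 := by
    rintro ⟨_, v, rfl⟩
    exact (Q_nil C x v).trans (ha v)
  have key : ∀ v, ∑ r : R, sgn (Q (v + r.1)) = if N v = 0 then (Fintype.card R : ℤ) * sgn (Q v) else 0 := fun v => by
    have h1 : ∀ r : R, sgn (Q (v + r.1)) = sgn (Q v) * sgn ((Symp.spB m F v).comp R.subtype r) := fun r => by
      rw [C.add, hRQ, add_zero, sgn_add]
      rfl
    rw [Finset.sum_congr rfl fun r _ => h1 r, ← Finset.mul_sum, sum_sgn_linear_eq]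
    by_cases hv : N v = 0
    · rw [if_pos hv, if_pos, mul_comm]
      refine LinearMap.ext ?_
      rintro ⟨_, u, rfl⟩
      show Symp.spB m F v (N u) = 0
      rw [← hadj, hv, map_zero, LinearMap.zero_apply]
    · rw [if_neg hv, if_neg, mul_zero]
      intro h
      refine hv (C.nondeg' fun u => ?_)
      rw [hadj]
      exact LinearMap.congr_fun h ⟨N u, LinearMap.mem_range_self N u⟩
  have hS : ∑ v : LinearMap.ker N, sgn (Q v.1) = ∑ v : V, sgn (Q v) := by
    have h1 : ∑ v : V, ∑ r : R, sgn (Q (v + r.1)) = (Fintype.card R : ℤ) * ∑ v : V, sgn (Q v) := by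
      rw [Finset.sum_comm]
      have : ∀ r : R, ∑ v : V, sgn (Q (v + r.1)) = ∑ v : V, sgn (Q v) := fun r =>
        Equiv.sum_comp (Equiv.addRight r.1) (fun v => sgn (Q v))
      simp [this]
    rw [Finset.sum_congr rfl fun v _ => key v, ← Finset.sum_filter, ← Finset.mul_sum] at h1
    have h2 := mul_left_cancel₀ (by exact_mod_cast Fintype.card_pos.ne' : (Fintype.card R : ℤ) ≠ 0) h1
    rw [← h2]
    exact (Finset.sum_subtype (p := fun v => v ∈ LinearMap.ker N) _ (fun v => by simp) (fun v => sgn (Q v))).symm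
  rw [← hS]
  have e1 : Nat.card (orb C x) = (Finset.univ.filter fun v : LinearMap.ker N => InJ (Q v.1)).card := by
    rw [← Fintype.card_subtype, ← Nat.card_eq_fintype_card]
    exact Nat.card_congr
      { toFun := fun a => ⟨⟨a.1, a.2.1⟩, a.2.2⟩
        invFun := fun a => ⟨a.1.1, a.1.2, a.2⟩
        left_inv := fun _ => rfl
        right_inv := fun _ => rfl }
  have e2 : ∑ v : LinearMap.ker N, sgn (Q v.1) = 2 * ((Finset.univ.filter fun v : LinearMap.ker N => InJ (Q v.1)).card : ℤ) -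
      Fintype.card (LinearMap.ker N) := by
    have h := Finset.card_filter_add_card_filter_not (s := (Finset.univ : Finset (LinearMap.ker N))) (fun v => InJ (Q v.1))
    rw [Finset.card_univ] at h
    rw [show (fun v : LinearMap.ker N => sgn (Q v.1)) = fun v => if InJ (Q v.1) then (1 : ℤ) else -1 from funext fun v => by
      unfold sgn; split_ifs <;> rfl, Finset.sum_ite, Finset.sum_const, Finset.sum_const, ← h]
    push_cast [nsmul_eq_mul]
    ring
  rw [e1, e2, ← Nat.card_eq_fintype_card (α := LinearMap.ker N), card_ker C hs]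
  push_cast
  ring

/-! ### The part inside `Ω` -/

omit [Fintype F] [CharP F 2] in
theorem card_omega_all {x : ↥(Cfsg.isometryGroup F Q)}
    (h : ∀ g : ↥(Cfsg.isometryGroup F Q), g * x = x * g → g ∈ Cfsg.Omega F Q) :
    Nat.card {g : ↥(Cfsg.Omega F Q) // (g : ↥(Cfsg.isometryGroup F Q)) * x = x * g} =
      Nat.card ↥(Subgroup.centralizer ({x} : Set ↥(Cfsg.isometryGroup F Q))) :=
  Nat.card_congr
    { toFun := fun g => ⟨g.1.1, Subgroup.mem_centralizer_singleton_iff.2 g.2⟩
      invFun := fun g => ⟨⟨g.1, h _ (Subgroup.mem_centralizer_singleton_iff.1 g.2)⟩,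
        Subgroup.mem_centralizer_singleton_iff.1 g.2⟩
      left_inv := fun _ => rfl
      right_inv := fun _ => rfl }

include C in
theorem card_omega_half (h : Fintype.card F ≠ 2 ∨ m ≠ 2) (hm : 1 ≤ m) {x g0 : ↥(Cfsg.isometryGroup F Q)}
    (hg : g0 * x = x * g0) (hg0 : g0 ∉ Cfsg.Omega F Q) :
    2 * Nat.card {g : ↥(Cfsg.Omega F Q) // (g : ↥(Cfsg.isometryGroup F Q)) * x = x * g} =
      Nat.card ↥(Subgroup.centralizer ({x} : Set ↥(Cfsg.isometryGroup F Q))) := by
  classical
  obtain ⟨δ, -, hiff⟩ := Cfsg.Lib.H3.omega_char_two C CharTwo.two_eq_zero (by simp; omega)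
    (h.imp id fun h => by simp; omega)
  have hd0 : δ g0 = -1 := (Int.units_eq_one_or _).resolve_left fun h => hg0 ((hiff g0).2 h)
  let K := Subgroup.centralizer ({x} : Set ↥(Cfsg.isometryGroup F Q))
  have hg0K : g0 ∈ K := Subgroup.mem_centralizer_singleton_iff.2 hg
  let e1 : {g : ↥(Cfsg.Omega F Q) // (g : ↥(Cfsg.isometryGroup F Q)) * x = x * g} ≃ {g : K // δ g.1 = 1} :=
    { toFun := fun g => ⟨⟨g.1.1, Subgroup.mem_centralizer_singleton_iff.2 g.2⟩, (hiff _).1 g.1.2⟩
      invFun := fun g => ⟨⟨g.1.1, (hiff _).2 g.2⟩, Subgroup.mem_centralizer_singleton_iff.1 g.1.2⟩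
      left_inv := fun _ => rfl
      right_inv := fun _ => rfl }
  let e2 : {g : K // δ g.1 = 1} ≃ {g : K // ¬ δ g.1 = 1} :=
    (Equiv.mulRight (⟨g0, hg0K⟩ : K)).subtypeEquiv fun g => by
      show δ g.1 = 1 ↔ ¬ δ (g.1 * g0) = 1
      rw [map_mul, hd0]
      rcases Int.units_eq_one_or (δ g.1) with h | h <;> rw [h] <;> decide
  rw [← Nat.card_congr (Equiv.sumCompl fun g : K => δ g.1 = 1), Nat.card_sum, ← Nat.card_congr e2, Nat.card_congr e1]
  ring

end Cfsg.Lib.Linear.OrthInvolCent
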