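import Cfsg.Agent.Lib.Linear.SympInvCent.OrthCount

/-!
# Orders of the centralisers in `Ω⁺` of involutions in characteristic two
-/

set_option autoImplicit false

namespace Cfsg.Lib.Linear.OrthInvolCent

open Module Cfsg.Lib.Linear.Orth Cfsg.Lib.Linear.OrthInvol
open Cfsg.Agent.S2166 (nil nil_apply nil_props)
open scoped Matrix

variable {F : Type*} [Field F] [Fintype F] [CharP F 2] {q m s : ℕ}
  {x : ↥(Cfsg.isometryGroup F (Cfsg.quadFormPlus m F))}

theorem le_and_pos (hx : x ^ 2 = 1) (hs : rk (plus_space m) x = s) : 2 * s ≤ 2 * m := by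
  obtain ⟨-, hsum, hle⟩ := Cfsg.Lib.H3.invol_facts CharTwo.two_eq_zero
    (congrArg Subtype.val ((pow_two x).symm.trans hx) : (x : GL (Fin m ⊕ Fin m) F) * x = 1)
  simp only [Fintype.card_sum, Fintype.card_fin] at hsum
  rw [rk_eq] at hs
  omega

theorem hyp_toSp (hx : x ^ 2 = 1) : toSp (plus_space (F := F) m) x ^ 2 = 1 := by
  rw [← map_pow, hx, map_one]

theorem split_card (hm : 1 ≤ m) :
    Nat.card ↥(Subgroup.centralizer ({toSp (plus_space (F := F) m) x} : Set ↥(Matrix.symplecticGroup (Fin m) F))) =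
      Nat.card ↥(Subgroup.centralizer ({x} : Set ↥(Cfsg.isometryGroup F (Cfsg.quadFormPlus m F)))) *
        Nat.card (orb (plus_space m) x) :=
  card_centralizer_sp (plus_space m) (k := m - 1) (by omega) x

theorem omega_nonalt (hF : Fintype.card F = q) (h : Fintype.card F ≠ 2 ∨ m ≠ 2) (hx : x ^ 2 = 1)
    (hs : rk (plus_space m) x = s) (hna : ¬ Alt (plus_space m) x) :
    1 ≤ s ∧ s ≤ m ∧ Nat.card ↥(Subgroup.centralizer ({toSp (plus_space (F := F) m) x} : Set ↥(Matrix.symplecticGroup (Fin m) F))) =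
      Nat.card {g : ↥(Cfsg.Omega F (Cfsg.quadFormPlus m F)) //
        (g : ↥(Cfsg.isometryGroup F (Cfsg.quadFormPlus m F))) * x = x * g} * q ^ (2 * m - s) := by
  have hsm := le_and_pos hx hs
  have hs1 : 1 ≤ s := by
    by_contra h0
    apply hna
    intro v
    have h1 : LinearMap.range (nil (toSp (plus_space m) x)) = ⊥ := Submodule.finrank_eq_zero.1 (by
      have : finrank F (LinearMap.range (nil (toSp (plus_space m) x))) = s := hs
      omega)
    have h2 := LinearMap.mem_range_self (nil (toSp (plus_space m) x)) v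
    rw [h1, Submodule.mem_bot] at h2
    rw [h2, map_zero]
  refine ⟨hs1, by omega, ?_⟩
  have hm : 1 ≤ m := by omega
  have h2' : (2 : F) = 0 := CharTwo.two_eq_zero
  obtain ⟨g0, hg, hg0⟩ : ∃ g0, g0 * x = x * g0 ∧ g0 ∉ Cfsg.Omega F (Cfsg.quadFormPlus m F) := by
    have hne : orderOf x = 2 := orderOf_eq_prime hx fun h1 => by
      rw [h1, rk_eq] at hs
      simp at hs
      omega
    obtain ⟨v, hgv, hv⟩ := exists_fixed_of_not_excl (plus_space m) hne fun h => hna h.2
    refine ⟨rI (plus_space m) v hv, Subtype.ext (gl_ext fun u => ?_), fun hmem => ?_⟩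
    · show (rGL (Cfsg.quadFormPlus m F) v * (x : GL (Fin m ⊕ Fin m) F)).val *ᵥ u =
        ((x : GL (Fin m ⊕ Fin m) F) * rGL (Cfsg.quadFormPlus m F) v).val *ᵥ u
      rw [mul_act, mul_act, rGL_act (plus_space m) hv, rGL_act (plus_space m) hv, Matrix.mulVec_sub, Matrix.mulVec_smul,
        hgv]
      conv_lhs => rw [← hgv, (plus_space m).B_act x.2 v u, hgv]
    · obtain ⟨δ, hδ, hiff⟩ := Cfsg.Lib.H3.omega_char_two (plus_space (F := F) m) h2' (by simp; omega)
        (h.imp id fun h => by simp; omega)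
      have := (hiff _).1 hmem
      rw [hδ] at this
      exact absurd this (by decide)
  rw [split_card hm, ← card_omega_half (plus_space m) h hm hg hg0, ← hF,
    ← two_card_orb_nonalt (plus_space m) hx hs hna]
  ring

theorem omega_alt (hF : Fintype.card F = q) (h : Fintype.card F ≠ 2 ∨ m ≠ 2) (hx : x ^ 2 = 1) (hx1 : x ≠ 1)
    (hs : rk (plus_space m) x = s) (ha : Alt (plus_space m) x) :
    1 ≤ m ∧ s ≤ m ∧ Nat.card ↥(Subgroup.centralizer ({toSp (plus_space (F := F) m) x} : Set ↥(Matrix.symplecticGroup (Fin m) F))) =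
      Nat.card {g : ↥(Cfsg.Omega F (Cfsg.quadFormPlus m F)) //
        (g : ↥(Cfsg.isometryGroup F (Cfsg.quadFormPlus m F))) * x = x * g} *
        (if s = m then q ^ m else q ^ m * (q ^ (m - s) + 1)) := by
  have hsm := le_and_pos hx hs
  have hne : orderOf x = 2 := orderOf_eq_prime hx hx1
  obtain ⟨h1, -, -⟩ := facts_of_invol (plus_space (F := F) m) hne
  have hm : 1 ≤ m := by omega
  refine ⟨hm, by omega, ?_⟩
  have horb : 2 * (Nat.card (orb (plus_space m) x) : ℤ) = (q : ℤ) ^ (2 * m - s) + (q : ℤ) ^ m := by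
    rw [two_card_orb_alt (plus_space m) hx hs ha, sum_sgn_plus, hF]
  rw [split_card hm]
  split_ifs with hsm'
  · subst hsm'
    rw [card_omega_all fun g hg => comm_mem_omega (plus_space s) (h.imp id fun h => by simp; omega) hm hs ha
      (show g * x * g⁻¹ = x by rw [hg, mul_inv_cancel_right])]
    congr 1
    have : (Nat.card (orb (plus_space s) x) : ℤ) = (q : ℤ) ^ s := by
      rw [show 2 * s - s = s by omega] at horb
      linarith
    exact_mod_cast this
  · obtain ⟨v, hgv, hv⟩ := exists_fixed_of_not_excl (plus_space m) hne fun h => hsm' (hs.symm.trans h.1)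
    obtain ⟨δ, hδ, hiff⟩ := Cfsg.Lib.H3.omega_char_two (plus_space (F := F) m) CharTwo.two_eq_zero (by simp; omega)
      (h.imp id fun h => by simp; omega)
    rw [← card_omega_half (plus_space m) h hm (g0 := rI (plus_space m) v hv) (Subtype.ext (gl_ext fun u => by
        show (rGL (Cfsg.quadFormPlus m F) v * (x : GL (Fin m ⊕ Fin m) F)).val *ᵥ u =
          ((x : GL (Fin m ⊕ Fin m) F) * rGL (Cfsg.quadFormPlus m F) v).val *ᵥ u
        rw [mul_act, mul_act, rGL_act (plus_space m) hv, rGL_act (plus_space m) hv, Matrix.mulVec_sub,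
          Matrix.mulVec_smul, hgv]
        conv_lhs => rw [← hgv, (plus_space m).B_act x.2 v u, hgv]))
      (fun hmem => by
        have := (hiff _).1 hmem
        rw [hδ] at this
        exact absurd this (by decide))]
    have : 2 * Nat.card (orb (plus_space m) x) = q ^ m * (q ^ (m - s) + 1) := by
      have e : q ^ m * (q ^ (m - s) + 1) = q ^ (2 * m - s) + q ^ m := by
        rw [mul_add, ← pow_add, mul_one, show m + (m - s) = 2 * m - s by omega]
      rw [e]
      exact_mod_cast horb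
    rw [mul_comm 2, mul_assoc, this]

theorem toSp_rank (hs : rk (plus_space m) x = s) :
    ((toSp (plus_space (F := F) m) x : Matrix (Fin m ⊕ Fin m) (Fin m ⊕ Fin m) F) - 1).rank = s := hs

theorem card_odd (hF : Fintype.card F = q) (h : Fintype.card F ≠ 2 ∨ m ≠ 2) (hx : x ^ 2 = 1)
    (hs : rk (plus_space m) x = s) (hodd : Odd s) :
    Nat.card {g : ↥(Cfsg.Omega F (Cfsg.quadFormPlus m F)) //
        (g : ↥(Cfsg.isometryGroup F (Cfsg.quadFormPlus m F))) * x = x * g} =
      q ^ (2 * m * (s - 1) - (3 * s ^ 2 - 3 * s) / 2) *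
        ((q : ℕ) ^ (((s - 1) / 2) ^ 2) * ∏ i : Fin ((s - 1) / 2), (q ^ (2 * ((i : ℕ) + 1)) - 1)) *
        ((q : ℕ) ^ ((m - s) ^ 2) * ∏ i : Fin (m - s), (q ^ (2 * ((i : ℕ) + 1)) - 1)) := by
  have hna : ¬ Alt (plus_space m) x := fun ha => by
    have hxx : toSp (plus_space (F := F) m) x * toSp (plus_space (F := F) m) x = 1 := by
      rw [← pow_two]; exact hyp_toSp hx
    have := SympInv.rank_even (Symp.spB_nondegenerate m F) _ (nil_props _ hxx).2 ha
    have hr : finrank F (LinearMap.range (nil (toSp (plus_space m) x))) = s := hs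
    rw [hr] at this
    exact Nat.not_even_iff_odd.2 hodd this
  obtain ⟨hs1, hsm, hc⟩ := omega_nonalt hF h hx hs hna
  rw [SympInv.card_odd hF (hyp_toSp hx) (toSp_rank hs) hodd] at hc
  have hq : 0 < q := hF ▸ Fintype.card_pos
  refine Nat.eq_of_mul_eq_mul_right (pow_pos hq (2 * m - s)) (hc.symm.trans ?_)
  obtain ⟨j, rfl⟩ := hodd
  have hexp : 2 * m * (2 * j + 1) - (3 * (2 * j + 1) ^ 2 - (2 * j + 1)) / 2 =
      2 * m * (2 * j + 1 - 1) - (3 * (2 * j + 1) ^ 2 - 3 * (2 * j + 1)) / 2 + (2 * m - (2 * j + 1)) := by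
    have e1 : (3 * (2 * j + 1) ^ 2 - (2 * j + 1)) / 2 = 6 * (j * j) + 5 * j + 1 := by
      rw [show 3 * (2 * j + 1) ^ 2 = 12 * (j * j) + 12 * j + 3 by ring]; omega
    have e2 : (3 * (2 * j + 1) ^ 2 - 3 * (2 * j + 1)) / 2 = 6 * (j * j) + 3 * j := by
      rw [show 3 * (2 * j + 1) ^ 2 = 12 * (j * j) + 12 * j + 3 by ring]; omega
    have e3 : 2 * m * (2 * j + 1) = 2 * m * (2 * j) + 2 * m := by ring
    have e4 : 8 * (j * j) + 4 * j ≤ 2 * m * (2 * j) := by
      rw [show 8 * (j * j) + 4 * j = 2 * (2 * j + 1) * (2 * j) by ring]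
      exact Nat.mul_le_mul_right _ (by omega)
    rw [Nat.add_sub_cancel, e1, e2, e3]
    omega
  rw [hexp, pow_add]
  ring

theorem card_even_orth (hF : Fintype.card F = q) (h : Fintype.card F ≠ 2 ∨ m ≠ 2) (hx : x ^ 2 = 1)
    (hs : rk (plus_space m) x = s) (heven : Even s) (hna : ¬ Alt (plus_space m) x) :
    Nat.card {g : ↥(Cfsg.Omega F (Cfsg.quadFormPlus m F)) //
        (g : ↥(Cfsg.isometryGroup F (Cfsg.quadFormPlus m F))) * x = x * g} =
      q ^ (2 * m * (s - 1) - (3 * s ^ 2 - 5 * s) / 2 - 1) *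
        ((q : ℕ) ^ (((s - 2) / 2) ^ 2) * ∏ i : Fin ((s - 2) / 2), (q ^ (2 * ((i : ℕ) + 1)) - 1)) *
        ((q : ℕ) ^ ((m - s) ^ 2) * ∏ i : Fin (m - s), (q ^ (2 * ((i : ℕ) + 1)) - 1)) := by
  obtain ⟨hs1, hsm, hc⟩ := omega_nonalt hF h hx hs hna
  have hna' : ∃ v, Symp.spB m F v (nil (toSp (plus_space m) x) v) ≠ 0 := by
    by_contra hh; push Not at hh; exact hna hh
  rw [SympInv.card_even_orth hF (hyp_toSp hx) (toSp_rank hs) heven hna'] at hc
  have hq : 0 < q := hF ▸ Fintype.card_pos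
  refine Nat.eq_of_mul_eq_mul_right (pow_pos hq (2 * m - s)) (hc.symm.trans ?_)
  obtain ⟨j, rfl⟩ := heven
  have hexp : 2 * m * (j + j) - (3 * (j + j) ^ 2 - 3 * (j + j)) / 2 - 1 =
      2 * m * (j + j - 1) - (3 * (j + j) ^ 2 - 5 * (j + j)) / 2 - 1 + (2 * m - (j + j)) := by
    have e1 : (3 * (j + j) ^ 2 - 3 * (j + j)) / 2 = 6 * (j * j) - 3 * j := by
      rw [show 3 * (j + j) ^ 2 = 12 * (j * j) by ring]; omega
    have e2 : (3 * (j + j) ^ 2 - 5 * (j + j)) / 2 = 6 * (j * j) - 5 * j := by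
      rw [show 3 * (j + j) ^ 2 = 12 * (j * j) by ring]; omega
    have e3 : 2 * m * (j + j) = 2 * m * (j + j - 1) + 2 * m := by
      rw [← Nat.mul_succ, Nat.succ_eq_add_one, show j + j - 1 + 1 = j + j by omega]
    have e4 : 8 * (j * j) ≤ 2 * m * (j + j) := by
      rw [show 8 * (j * j) = 2 * (j + j) * (j + j) by ring]
      exact Nat.mul_le_mul_right _ (by omega)
    have e5 : j ≤ j * j := Nat.le_mul_self j
    have e6 : 8 * (j * j) ≤ 2 * m * (j + j - 1) + 4 * j := by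
      have h1 := Nat.mul_le_mul_right (j + j - 1) (show 2 * (j + j) ≤ 2 * m by omega)
      have h2 : 2 * (j + j) * (j + j - 1) + 4 * j = 8 * (j * j) := by
        obtain ⟨i, rfl⟩ : ∃ i, j = i + 1 := ⟨j - 1, by omega⟩
        rw [show i + 1 + (i + 1) - 1 = 2 * i + 1 by omega]
        ring
      omega
    rw [e1, e2]
    omega
  rw [hexp, pow_add]
  ring

theorem card_even_alt (hF : Fintype.card F = q) (h : Fintype.card F ≠ 2 ∨ m ≠ 2) (hx : x ^ 2 = 1) (hx1 : x ≠ 1)
    (hs : rk (plus_space m) x = s) (heven : Even s) (ha : Alt (plus_space m) x) :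
    Nat.card {g : ↥(Cfsg.Omega F (Cfsg.quadFormPlus m F)) //
        (g : ↥(Cfsg.isometryGroup F (Cfsg.quadFormPlus m F))) * x = x * g} =
      q ^ (2 * m * s - (3 * s ^ 2 + s) / 2) *
        ((q : ℕ) ^ ((s / 2) ^ 2) * ∏ i : Fin (s / 2), (q ^ (2 * ((i : ℕ) + 1)) - 1)) *
        (if s = m then 1 else q ^ ((m - s) * (m - s - 1)) * (q ^ (m - s) - 1) *
          ∏ i : Fin (m - s - 1), (q ^ (2 * ((i : ℕ) + 1)) - 1)) := by
  obtain ⟨hm, hsm, hc⟩ := omega_alt hF h hx hx1 hs ha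
  rw [SympInv.card_even_alt hF (hyp_toSp hx) (toSp_rank hs) heven ha] at hc
  have hq : 0 < q := hF ▸ Fintype.card_pos
  obtain ⟨j, rfl⟩ := heven
  have e1 : (3 * (j + j) ^ 2 - (j + j)) / 2 = 6 * (j * j) - j := by
    rw [show 3 * (j + j) ^ 2 = 12 * (j * j) by ring]; omega
  have e2 : (3 * (j + j) ^ 2 + (j + j)) / 2 = 6 * (j * j) + j := by
    rw [show 3 * (j + j) ^ 2 = 12 * (j * j) by ring]; omega
  have e4 : 8 * (j * j) ≤ 2 * m * (j + j) := by
    rw [show 8 * (j * j) = 2 * (j + j) * (j + j) by ring]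
    exact Nat.mul_le_mul_right _ (by omega)
  have e5 : j ≤ j * j := Nat.le_mul_self j
  rw [e1] at hc
  rw [e2]
  split_ifs at hc ⊢ with hsm'
  · refine Nat.eq_of_mul_eq_mul_right (pow_pos hq m) (hc.symm.trans ?_)
    rw [show m - (j + j) = 0 by omega, show 2 * m * (j + j) - (6 * (j * j) - j) =
      2 * m * (j + j) - (6 * (j * j) + j) + m by omega, pow_add]
    simp
    ring
  · refine Nat.eq_of_mul_eq_mul_right (Nat.mul_pos (pow_pos hq m) (Nat.succ_pos _)) (hc.symm.trans ?_)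
    obtain ⟨i, hi⟩ : ∃ i, m - (j + j) = i + 1 := ⟨m - (j + j) - 1, by omega⟩
    simp only [Fin.prod_univ_eq_prod_range (fun n => q ^ (2 * (n + 1)) - 1)]
    rw [hi]
    simp only [Nat.add_sub_cancel]
    rw [Finset.prod_range_succ]
    have hfac : q ^ (2 * (i + 1)) - 1 = (q ^ (i + 1) - 1) * (q ^ (i + 1) + 1) := by
      rw [mul_comm _ (q ^ (i + 1) + 1), ← Nat.sq_sub_sq, ← pow_mul, one_pow, mul_comm (i + 1)]
    rw [hfac, Nat.succ_eq_add_one]
    have e6 : q ^ (2 * m * (j + j) - (6 * (j * j) - j)) * q ^ (i + 1) =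
        q ^ (2 * m * (j + j) - (6 * (j * j) + j)) * q ^ m := by
      rw [← pow_add, ← pow_add]; congr 1; omega
    generalize q ^ (i + 1) - 1 = A
    generalize (∏ k ∈ Finset.range ((j + j) / 2), (q ^ (2 * (k + 1)) - 1)) = P1
    generalize (∏ k ∈ Finset.range i, (q ^ (2 * (k + 1)) - 1)) = P2
    rw [show (i + 1) ^ 2 = (i + 1) * i + (i + 1) by ring, pow_add q ((i + 1) * i)]
    linear_combination (q ^ ((j + j) / 2) ^ 2 * P1 * (q ^ ((i + 1) * i) * P2 * A * (q ^ (i + 1) + 1))) * e6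

end Cfsg.Lib.Linear.OrthInvolCent
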